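import Mathlib

/-!
# The numerical part

The degree `f`, the sign `δ`, the prime `p`, the order `p * M` and the order `C` of the centraliser
of an involution are cut down by divisibility and by the row orthogonality relation.
-/

set_option autoImplicit false

namespace Cfsg.Agent.Lib.LargePrimeTwo42.Numeric

/-- A number built from four exponents. -/
def P4 (a b c d : ℕ) : ℕ := 2 ^ a * 3 ^ b * 5 ^ c * 7 ^ d

/-- The exponent of `q` in `n`, with fuel. -/
def ex (q : ℕ) : ℕ → ℕ → ℕ
  | 0, _ => 0
  | k + 1, n => if n = 0 then 0 else if n % q = 0 then ex q k (n / q) + 1 else 0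

/-- The exponent of `q` in a small number. -/
def vq (q n : ℕ) : ℕ := ex q 30 n

/-- The sum `e = f + δ`. -/
def eOf (f : ℕ) (δ : ℤ) : ℕ := ((f : ℤ) + δ).toNat

/-- Condition on the exponent `m` of an odd prime `q` in `M`, `n` being half of `m + r`. -/
def mOK (p f e q d n : ℕ) : Bool :=
  let r := vq q f + vq q e
  decide (r ≤ 2 * n) && decide (q ^ n * (q - 1) ≤ q * f) &&
    decide (vq q f ≤ 2 * n - r) && decide (vq q e ≤ 2 * n - r) &&
    (decide (q ≠ p) || decide (2 * n - r = 0)) &&
    decide (r ≤ n + d) && decide (n + d - r ≤ 2 * n - r)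

/-- The exponents `(m, c)` allowed for `q`. -/
def mList (p f e q d : ℕ) : List (ℕ × ℕ) :=
  ((List.range 10).filter fun n => mOK p f e q d n).map fun n =>
    (2 * n - (vq q f + vq q e), n + d - (vq q f + vq q e))

/-- A candidate. -/
structure Cand where
  p : ℕ
  f : ℕ
  δ : ℤ
  m2 : ℕ
  m3 : ℕ
  m5 : ℕ
  m7 : ℕ
  C : ℕ
  D : ℕ

/-- The order of a regular part. -/
def Cand.M (x : Cand) : ℕ := P4 x.m2 x.m3 x.m5 x.m7

/-- `w (w + δ)`. -/
def ww (δ w : ℤ) : ℕ := (w * (w + δ)).toNat

/-- The class contribution. -/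
def term (x : Cand) (h : ℕ) (w : ℤ) : ℕ := x.p * (x.M / h) * ww x.δ w

/-- The total to be reached. -/
def Cand.B (x : Cand) : ℕ := x.M - x.f * eOf x.f x.δ

/-- The conditions at the class of involutions. -/
def candOK (x : Cand) : Bool :=
  let v : ℤ := (x.f : ℤ) - x.D
  decide ((x.M / 2) % x.p = 1) && decide (x.f * eOf x.f x.δ ≤ x.M) &&
    decide (0 ≤ (x.f : ℤ) + ((x.p : ℤ) - 1) * x.δ + x.p * v) &&
    decide (term x x.C v ≤ x.B) &&
    decide (1 + v ^ 2 + (((x.p - 1) / 2 : ℕ) : ℤ) * (v + x.δ) ^ 2 ≤ (x.C : ℤ))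

/-- A bound for square roots: the result squared exceeds the argument. -/
def radAux (n : ℕ) : ℕ → ℕ → ℕ
  | 0, r => r
  | k + 1, r => let s := r + 2 ^ k; if s * s ≤ n then radAux n k s else radAux n k r

/-- A bound for square roots. -/
def rad (n : ℕ) : ℕ := let r := radAux n 32 0 + 1; if n < r * r then r else n + 1

/-- The values of the character allowed on a class with centraliser order `h`. -/
def ws (x : Cand) (h : ℕ) : List ℤ :=
  let R := rad (h / x.p) + 1
  let h' := h * x.D / Nat.gcd (h * x.D) x.C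
  let j0 := (x.f - R) / h'
  ((List.range (2 * R / h' + 3)).map fun i => (x.f : ℤ) - (h' : ℤ) * ((j0 + i : ℕ) : ℤ)).filter
    fun w => decide (w < x.f) &&
      decide (1 + w ^ 2 + (((x.p - 1) / 2 : ℕ) : ℤ) * (w + x.δ) ^ 2 ≤ (h : ℤ)) &&
      decide (term x h w ≤ x.B) && decide ((h : ℤ) * x.D ∣ (x.C : ℤ) * ((x.f : ℤ) - w))

/-- The exponents up to the given one, or that one alone. -/
def expRange (m : ℕ) (top : Bool) : List ℕ := if top then [m] else List.range (m + 1)

/-- The divisors of `M`, with prescribed full exponents. -/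
def hs (x : Cand) (t3 t5 t7 : Bool) : List ℕ :=
  (List.range (x.m2 + 1)).flatMap fun a => (expRange x.m3 t3).flatMap fun b =>
    (expRange x.m5 t5).flatMap fun c => (expRange x.m7 t7).map fun d => P4 a b c d

/-- Insertion in decreasing order without repetition. -/
def ins (a : ℕ) : List ℕ → List ℕ
  | [] => [a]
  | b :: l => if b = a then b :: l else if b < a then a :: b :: l else b :: ins a l

/-- The non-zero contributions. -/
def vals (x : Cand) : List ℕ :=
  (((hs x false false false).flatMap fun h => (ws x h).map fun w => term x h w).filter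
    fun a => a != 0).foldr ins []

/-- The contributions of a class of elements of prime order `q` central in a Sylow subgroup. -/
def mand (x : Cand) (q m : ℕ) : List ℕ :=
  if m = 0 then [0] else
    (((hs x (q == 3) (q == 5) (q == 7)).flatMap fun h =>
      ((ws x h).filter fun w => decide (((x.f : ℤ) - w) % (q : ℤ) = 0)).map
        fun w => term x h w)).foldr ins []

/-- Whether a number is a sum of entries, repetition allowed. -/
def canSum : List ℕ → ℕ → Bool
  | [], r => r == 0
  | v :: V, r => if r = 0 then true else if v = 0 then canSum V r else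
      (List.range (r / v + 1)).any fun j => canSum V (r - j * v)

/-- The row orthogonality relation is impossible. -/
def killed (x : Cand) : Bool :=
  let V := vals x
  let z := term x x.C ((x.f : ℤ) - x.D)
  (mand x 3 x.m3).all fun a => (mand x 5 x.m5).all fun b => (mand x 7 x.m7).all fun c =>
    decide (x.B < z + a + b + c) || !(canSum V (x.B - (z + a + b + c)))

/-- The prime, the degree and the sign. -/
def cases : List (ℕ × ℕ × ℤ) :=
  [(5, 4, -1), (7, 6, -1), (5, 6, 1), (7, 8, 1), (5, 9, -1), (11, 10, -1), (13, 14, 1), (7,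
   15, 1), (17, 16, -1), (19, 20, 1), (11, 21, -1), (23, 24, 1), (13, 25, -1), (13, 27, 1),
   (29, 28, -1), (17, 35, 1), (37, 36, -1), (47, 48, 1), (5, 49, -1), (17, 50, -1), (31, 63,
   1), (5, 64, -1), (13, 64, -1), (79, 80, 1), (41, 81, -1), (31, 125, 1), (127, 126, -1),
   (223, 224, 1), (113, 225, -1), (2399, 2400, 1), (1201, 2401, -1), (4373, 4374, 1), (547,
   4375, -1)]

/-- Membership of a candidate in the final list. -/
def isFinal (final : List (ℕ × ℕ × ℕ × ℕ)) (x : Cand) : Bool :=
  final.contains (x.p, x.f, x.M, x.C)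

/-- The search. -/
def check (final : List (ℕ × ℕ × ℕ × ℕ)) : ℕ × ℕ × ℤ → Bool
  | (p, f, δ) =>
    let e := eOf f δ
    let bd := f + f / p + 2
    let r2 := vq 2 f + vq 2 e
    (List.range 13).all fun d2 => decide (bd < 2 ^ d2) || decide (2 * d2 < r2 + 2) ||
      (List.range 8).all fun d3 => decide (bd < P4 d2 d3 0 0) ||
        (List.range 6).all fun d5 => decide (bd < P4 d2 d3 d5 0) ||
          (List.range 5).all fun d7 => decide (bd < P4 d2 d3 d5 d7) ||
            (mList p f e 3 d3).all fun u => (mList p f e 5 d5).all fun s =>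
              (mList p f e 7 d7).all fun t =>
                let x : Cand := ⟨p, f, δ, 2 * d2 - r2, u.1, s.1, t.1,
                  P4 (2 * d2 - r2) u.2 s.2 t.2, P4 d2 d3 d5 d7⟩
                !(candOK x) || isFinal final x || killed x

/-- The survivors with a `2`-nilpotent centraliser of an involution. -/
def nilList : List (ℕ × ℕ × ℕ × ℕ) :=
  [(5, 4, 12, 4), (5, 6, 672, 32), (7, 8, 72, 8), (5, 9, 72, 8), (7, 15, 240, 16),
   (17, 16, 240, 16), (19, 20, 420, 20), (11, 21, 420, 20), (13, 27, 756, 28),
   (13, 27, 472500, 700), (29, 28, 756, 28), (17, 35, 1260, 36), (37, 36, 1260, 36),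
   (31, 63, 4032, 64), (5, 64, 4032, 64), (13, 64, 4032, 64)]

/-- The survivors with `M = f e`. -/
def tightList : List (ℕ × ℕ × ℕ × ℕ) :=
  [(23, 24, 600, 24), (13, 25, 600, 24), (47, 48, 2352, 48), (5, 49, 2352, 48),
   (79, 80, 6480, 80), (41, 81, 6480, 80), (223, 224, 50400, 224), (113, 225, 50400, 224),
   (2399, 2400, 5762400, 2400), (1201, 2401, 5762400, 2400)]

theorem check_all : cases.all (check (nilList ++ tightList)) = true := by decide +kernel

end Cfsg.Agent.Lib.LargePrimeTwo42.Numeric
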