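import Cfsg.Agent.Lib.RecogThree.L33.Order.Mult
import Cfsg.Agent.Lib.PrimeSharp.TwoP.Congr
import Cfsg.Agent.Lib.Classif.ClassSum
import Cfsg.Agent.Lib.Inv59.EightChar
import Cfsg.Agent.Lib.LargePrimeTwo42.Numeric

/-!
# The character of a Sylow subgroup of prime order with normaliser twice as large

`χ` is the non-exceptional character: it takes the value `δ` on the `p`-singular elements and is
rational, and the exceptional characters are `δ + χ` on the others.
-/

set_option autoImplicit false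
set_option linter.style.haveILetI false
set_option linter.unusedSectionVars false

namespace Cfsg.Agent.Lib.LargePrimeTwo42.Chars

open Cfsg.Agent.Lib Cfsg.Agent.Lib.Classif Cfsg.Agent.Lib.Characters
open Cfsg.Agent.Lib.Characters.Basic
open Cfsg.Agent.Lib.Classif.PrimeExceptional (deg apply_one_eq two_le_deg)
open Numeric (eOf ww)
open scoped ComplexConjugate

universe u

/-- The data. -/
structure Setup (G : Type u) [Group G] [Finite G] (p : ℕ) [Fact p.Prime] where
  P : Sylow p G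
  hP : Nat.card (P : Subgroup G) = p
  hC : Subgroup.centralizer ((P : Subgroup G) : Set G) = P
  hN : Nat.card (Subgroup.normalizer ((P : Subgroup G) : Set G)) = 2 * p
  hG : ¬ IsMulCommutative G
  p5 : 5 ≤ p
  D : FirstPowerData.Data P 2
  χ : Cfsg.IrrCharacter G
  K_eq : D.K = {χ}
  a_eq : D.a χ = D.δ
  f : ℕ
  deg_χ : deg χ = f
  two_le_f : 2 ≤ f
  deg_θ : deg D.θ = f + D.δ
  two_le_θ : 2 ≤ deg D.θ

variable {G : Type u} [Group G] [Finite G] [IsSimpleGroup G] {p : ℕ} [hp : Fact p.Prime]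

theorem exists_setup (hG : ¬ IsMulCommutative G) (h5 : 5 ≤ p) (P : Sylow p G)
    (hP : Nat.card (P : Subgroup G) = p)
    (hN : (P : Subgroup G).relIndex (Subgroup.normalizer ((P : Subgroup G) : Set G)) = 2) :
    Nonempty (Setup G p) := by
  classical
  have hcN : Nat.card (Subgroup.normalizer ((P : Subgroup G) : Set G)) = 2 * p := by
    have h := Subgroup.relIndex_mul_relIndex ⊥ (P : Subgroup G)
      (Subgroup.normalizer ((P : Subgroup G) : Set G)) bot_le Subgroup.le_normalizer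
    rw [Subgroup.relIndex_bot_left, Subgroup.relIndex_bot_left, hP, hN] at h
    omega
  obtain ⟨hdvd, hne⟩ := SmallGroups.Sylow.relIndex_of_card_prime hG P hP
  have hmul := SmallGroups.Sylow.card_centralizer_mul_relIndex (P : Subgroup G)
  obtain ⟨e, c, -, he1, hpc, hcc, hce⟩ := SmallGroups.Sylow.exists_normalizer_factor hG P hP
  rw [hcN] at hce
  obtain ⟨k, rfl⟩ := hpc
  have hp0 := hp.out.pos
  have hke : k * e = 2 := Nat.eq_of_mul_eq_mul_left hp0 (by linarith)
  have hk1 : k = 1 := by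
    rcases (Nat.dvd_prime Nat.prime_two).1 (Dvd.intro e hke) with h | h
    · exact h
    · subst h; omega
  subst hk1
  rw [mul_one] at hcc
  have hC := SmallOrderKills4.centralizer_eq P hP hcc
  have hrel : (Subgroup.centralizer ((P : Subgroup G) : Set G)).relIndex
      (Subgroup.normalizer ((P : Subgroup G) : Set G)) = 2 := by rw [hC]; exact hN
  obtain ⟨D⟩ := FirstPowerData.exists_data P hP hrel
  obtain ⟨χ, hK⟩ := Finset.card_eq_one.1 (show D.K.card = 1 by have := D.card_K; omega)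
  have hperf := SmallGroups.Sylow.commutator_eq_top hG
  obtain ⟨h2K, h2θ⟩ := D.two_le hperf
  have h2χ := h2K χ (by simp [hK])
  have hdeq := D.degree_eq
  rw [hK, Finset.sum_singleton] at hdeq
  have haδ : D.a χ = D.δ := by
    rcases D.a_unit χ (by simp [hK]) with ha | ha <;> rcases D.δ_unit with hd | hd <;>
      rw [ha, hd] at hdeq ⊢ <;> omega
  refine ⟨⟨P, hP, hC, hcN, hG, h5, D, χ, hK, haδ, (deg χ).natAbs, by omega, by omega, ?_, h2θ⟩⟩
  rw [haδ] at hdeq
  rcases D.δ_unit with hd | hd <;> rw [hd] at hdeq ⊢ <;> omega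

variable (S : Setup G p)

theorem χ_mem : S.χ ∈ S.D.K := by simp [S.K_eq]

/-- The degree of the exceptional characters. -/
def Setup.e (S : Setup G p) : ℕ := eOf S.f S.D.δ

theorem e_eq : (S.e : ℤ) = S.f + S.D.δ := by
  have := S.deg_θ
  have := S.two_le_θ
  show ((((S.f : ℤ) + S.D.δ).toNat : ℕ) : ℤ) = _
  omega

theorem two_le_e : 2 ≤ S.e := by
  have := e_eq S; have := S.deg_θ; have := S.two_le_θ; omega

theorem χ_one : (S.χ : G → ℂ) 1 = (S.f : ℂ) := by
  rw [apply_one_eq, S.deg_χ]; simp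

theorem θ_deg : deg S.D.θ = (S.e : ℤ) := by rw [e_eq, S.deg_θ]

theorem δ_sq : S.D.δ * S.D.δ = 1 := by rcases S.D.δ_unit with h | h <;> rw [h] <;> rfl

theorem rel {g : G} (hg : ¬ p ∣ orderOf g) :
    (S.D.θ : G → ℂ) g = (S.D.δ : ℂ) + (S.χ : G → ℂ) g := by
  have h := S.D.rel g hg
  rw [S.K_eq, Finset.sum_singleton, S.a_eq] at h
  have hδ : (S.D.δ : ℂ) * S.D.δ = 1 := by exact_mod_cast δ_sq S
  linear_combination -((S.D.δ : ℂ)) * h + ((S.χ : G → ℂ) g - (S.D.θ : G → ℂ) g) * hδ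

include S in
theorem order_singular {g : G} (hg : p ∣ orderOf g) : orderOf g = p := by
  obtain ⟨b, hb, hb1⟩ := FirstPowerData.exists_conj_mem S.P S.hP S.hC hg
  have h := Subgroup.orderOf_dvd_natCard _ hb
  rw [S.hP] at h
  have h' : orderOf (b * g * b⁻¹) = orderOf g := (MulAut.conj b).orderOf_eq g
  rw [h'] at h
  exact Nat.dvd_antisymm h hg

theorem value_singular {g : G} (hg : p ∣ orderOf g) : (S.χ : G → ℂ) g = (S.D.δ : ℂ) := by
  obtain ⟨b, hb, hb1⟩ := FirstPowerData.exists_conj_mem S.P S.hP S.hC hg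
  have h := S.D.value S.χ (χ_mem S) _ hb hb1 1 (one_mem _)
    (by rw [orderOf_one]; simpa using hp.out.ne_one)
  rw [mul_one, isClassFunction_irr S.χ g b, S.a_eq] at h
  exact h

theorem deg_cong : (p : ℤ) ∣ (S.f : ℤ) - S.D.δ := by
  have := S.D.deg_cong S.hP (χ_mem S)
  rwa [S.deg_χ, S.a_eq] at this

theorem not_dvd_f : ¬ p ∣ S.f := fun h => by
  have h1 := deg_cong S
  have h2 : (p : ℤ) ∣ S.D.δ := by simpa using (Int.natCast_dvd_natCast.2 h).sub h1
  have h3 := Int.natAbs_dvd_natAbs.2 h2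
  have := S.p5
  rcases S.D.δ_unit with e | e <;> rw [e] at h3 <;> simp at h3 <;> omega

theorem not_dvd_e : ¬ p ∣ S.e := fun h => by
  have h1 := deg_cong S
  have h2 : (p : ℤ) ∣ (S.e : ℤ) := Int.natCast_dvd_natCast.2 h
  rw [e_eq] at h2
  have h3 : (p : ℤ) ∣ 2 * S.D.δ := by
    have := h2.sub h1
    rwa [show (S.f : ℤ) + S.D.δ - ((S.f : ℤ) - S.D.δ) = 2 * S.D.δ by ring] at this
  have h4 := Int.natAbs_dvd_natAbs.2 h3
  have := S.p5
  rcases S.D.δ_unit with e | e <;> rw [e] at h4 <;> norm_num at h4 <;>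
    exact absurd (Nat.le_of_dvd (by norm_num) h4) (by omega)

theorem f_dvd : S.f ∣ Nat.card G := by
  have h : (deg S.χ).natAbs = Cfsg.charDegree (S.χ : G → ℂ) := PrimeExceptional.natAbs_deg _
  rw [S.deg_χ, Int.natAbs_natCast] at h
  exact h ▸ H80.ClassMult.charDegree_dvd_card S.χ

theorem e_dvd : S.e ∣ Nat.card G := by
  have h : (deg S.D.θ).natAbs = Cfsg.charDegree (S.D.θ : G → ℂ) := PrimeExceptional.natAbs_deg _
  rw [θ_deg, Int.natAbs_natCast] at h
  exact h ▸ H80.ClassMult.charDegree_dvd_card S.D.θ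

/-- `M = |G| / p`. -/
noncomputable def Setup.M (_ : Setup G p) : ℕ := Nat.card G / p

theorem card_G : Nat.card G = p * S.M := by
  have h := Subgroup.card_subgroup_dvd_card (S.P : Subgroup G)
  rw [S.hP] at h
  exact (Nat.mul_div_cancel' h).symm

theorem not_dvd_M : ¬ p ∣ S.M := fun hd => by
  obtain ⟨k, hk⟩ := hd
  obtain ⟨m, hm⟩ : p ^ 2 ∣ Nat.card G := ⟨k, by rw [card_G S, hk]; ring⟩
  obtain ⟨Q, hQ⟩ := Sylow.exists_subgroup_card_pow_prime (G := G) p (show p ^ 2 ∣ Nat.card G from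
    ⟨m, hm⟩)
  obtain ⟨R, hR⟩ := (IsPGroup.of_card hQ).exists_le_sylow
  have h := Subgroup.card_dvd_of_le hR
  rw [hQ, Sylow.card_eq_multiplicity] at h
  have h2 := Sylow.card_eq_multiplicity S.P
  rw [S.hP] at h2
  rw [← h2, pow_two] at h
  have := Nat.le_of_dvd hp.out.pos h
  have := S.p5
  nlinarith

theorem M_pos : 0 < S.M := Nat.pos_of_ne_zero fun h => not_dvd_M S (by rw [h]; exact dvd_zero p)

theorem sylow_mod : (S.M / 2) % p = 1 ∧ 2 * (S.M / 2) = S.M := by
  have h := SmallGroups.Sylow.card_normalizer_mul S.P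
  rw [S.hN, card_G S] at h
  have hm := SmallGroups.Sylow.card_sylow_mod (G := G) (p := p)
  have h2 : 2 * Nat.card (Sylow p G) = S.M := Nat.eq_of_mul_eq_mul_left hp.out.pos (by linarith)
  rw [show S.M / 2 = Nat.card (Sylow p G) by omega]
  exact ⟨hm, h2⟩

theorem dvd_M {n : ℕ} (h : n ∣ Nat.card G) (hn : ¬ p ∣ n) : n ∣ S.M :=
  ((hp.out.coprime_iff_not_dvd.2 hn).symm).dvd_of_dvd_mul_left (card_G S ▸ h)

theorem f_dvd_M : S.f ∣ S.M := dvd_M S (f_dvd S) (not_dvd_f S)

theorem e_dvd_M : S.e ∣ S.M := dvd_M S (e_dvd S) (not_dvd_e S)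

theorem cent_dvd_M {g : G} (hg : ¬ p ∣ orderOf g) (hg1 : g ≠ 1) :
    Nat.card (Subgroup.centralizer ({g} : Set G)) ∣ S.M := by
  refine dvd_M S (Subgroup.card_subgroup_dvd_card _) fun hd => ?_
  obtain ⟨⟨y, hy⟩, hy'⟩ := exists_prime_orderOf_dvd_card' (G := Subgroup.centralizer ({g} : Set G))
    p hd
  rw [Subgroup.orderOf_mk] at hy'
  have hcomm : Commute y g := Subgroup.mem_centralizer_singleton_iff.1 hy
  have hcop : (orderOf y).Coprime (orderOf g) := by
    rw [hy']; exact hp.out.coprime_iff_not_dvd.2 hg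
  have ho := hcomm.orderOf_mul_eq_mul_orderOf_of_coprime hcop
  have := order_singular S (g := y * g) (by rw [ho, hy']; exact dvd_mul_right _ _)
  rw [ho, hy'] at this
  exact hg1 (orderOf_eq_one_iff.1 ((mul_eq_left₀ hp.out.ne_zero).1 this))

theorem other_zero (c : Cfsg.IrrCharacter G) (h1 : c ≠ oneChar G) (hK : c ∉ S.D.K)
    (hf : c ∉ S.D.fam) {g : G} (hg : p ∣ orderOf g) : (c : G → ℂ) g = 0 := by
  have hd := PrimeDegrees.dvd_deg_of_other S.hP S.hC S.D c h1 hK hf
  have h0 : 0 ≤ deg c := Int.natCast_nonneg _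
  obtain ⟨k, hk⟩ : p ∣ (deg c).natAbs := Int.natCast_dvd.1 hd
  refine DefectZero.apply_eq_zero (p := p) (n := 1) (r := S.M) (e := k) hp.out c
    (by rw [pow_one, ← card_G S]) (not_dvd_M S) ?_ hg
  rw [apply_one_eq, pow_one, ← Int.natAbs_of_nonneg h0, hk, Int.cast_natCast]

theorem powIrr_eq {k : ℕ} (hk : k.Coprime (Nat.card G)) :
    PrincipalCore.Rational.powIrr hk S.χ = S.χ := by
  set c := PrincipalCore.Rational.powIrr hk S.χ with hc
  have hd : deg c = S.f := by
    have h : ((deg c : ℤ) : ℂ) = ((S.f : ℤ) : ℂ) := by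
      rw [← apply_one_eq, hc, PrincipalCore.Rational.powIrr_apply, one_pow, χ_one]; simp
    exact_mod_cast h
  by_cases h1 : c = oneChar G
  · rw [h1, PrimeExceptional.deg_oneChar] at hd
    have := S.two_le_f
    omega
  by_cases hf : c ∈ S.D.fam
  · rw [S.D.fam_deg c hf, S.deg_θ] at hd
    rcases S.D.δ_unit with e | e <;> rw [e] at hd <;> omega
  by_cases hK : c ∈ S.D.K
  · simpa [S.K_eq] using hK
  · have h := PrimeDegrees.dvd_deg_of_other S.hP S.hC S.D c h1 hK hf
    rw [hd] at h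
    exact absurd (Int.natCast_dvd_natCast.1 h) (not_dvd_f S)

theorem χ_pow {k : ℕ} (hk : k.Coprime (Nat.card G)) (g : G) :
    (S.χ : G → ℂ) (g ^ k) = (S.χ : G → ℂ) g := by
  rw [← PrincipalCore.Rational.powIrr_apply hk, powIrr_eq S hk]

theorem exists_coprime_rep {N q i : ℕ} (hq : q.Prime) (hqN : q ∣ N) (hN : 0 < N) (hi : ¬ q ∣ i) :
    ∃ k : ℕ, k ≡ i [MOD q] ∧ k.Coprime N := by
  haveI : NeZero N := ⟨hN.ne'⟩
  obtain ⟨w, hw⟩ := ZMod.unitsMap_surjective hqN
    (ZMod.unitOfCoprime i (hq.coprime_iff_not_dvd.2 hi).symm)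
  refine ⟨(w : ZMod N).val, ?_, ZMod.val_coe_unit_coprime _⟩
  rw [← ZMod.natCast_eq_natCast_iff]
  have h := congrArg (fun t : (ZMod q)ˣ => (t : ZMod q)) hw
  simp only [ZMod.unitsMap_def, Units.coe_map, MonoidHom.coe_coe, ZMod.coe_unitOfCoprime] at h
  rw [← h, ZMod.castHom_apply, ZMod.cast_eq_val]

theorem χ_int (g : G) : ∃ z : ℤ, (z : ℂ) = (S.χ : G → ℂ) g :=
  PrimeSharp.TwoP.Congr.exists_int_of_rational (isCharacter_irr S.χ) (fun _ hk g => χ_pow S hk g) g

/-- The value of `χ`. -/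
noncomputable def Setup.w (S : Setup G p) (g : G) : ℤ := (χ_int S g).choose

theorem w_spec (g : G) : (S.χ : G → ℂ) g = (S.w g : ℂ) := (χ_int S g).choose_spec.symm

theorem w_one : S.w 1 = S.f := by
  have h := w_spec S 1
  rw [χ_one] at h
  exact_mod_cast h.symm

theorem w_conj (b g : G) : S.w (b * g * b⁻¹) = S.w g := by
  have h := isClassFunction_irr S.χ g b
  rw [w_spec, w_spec] at h
  exact_mod_cast h

theorem w_isConj {g h : G} (hc : IsConj g h) : S.w g = S.w h := by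
  obtain ⟨b, rfl⟩ := isConj_iff.1 hc
  exact (w_conj S b g).symm

theorem w_singular {g : G} (hg : p ∣ orderOf g) : S.w g = S.D.δ := by
  have h := w_spec S g
  rw [value_singular S hg] at h
  exact_mod_cast h.symm

theorem θ_val {g : G} (hg : ¬ p ∣ orderOf g) {θ' : Cfsg.IrrCharacter G} (h : θ' ∈ S.D.fam) :
    (θ' : G → ℂ) g = ((S.w g + S.D.δ : ℤ) : ℂ) := by
  rw [S.D.fam_regular θ' h g hg, rel S hg, w_spec]
  push_cast
  ring

theorem w_congr_pow {r : ℕ} (hr : r.Prime) (g : G) : (r : ℤ) ∣ S.w g - S.w (g ^ r) :=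
  PrimeSharp.TwoP.Congr.congr_pow (isCharacter_irr S.χ) hr g (w_spec S g).symm (w_spec S _).symm

theorem w_prime {q : ℕ} (hq : q.Prime) {g : G} (hg : orderOf g = q) :
    (q : ℤ) ∣ (S.f : ℤ) - S.w g := by
  have h := w_congr_pow S hq g
  rw [← hg, pow_orderOf_eq_one, w_one, hg] at h
  simpa using h.neg_right

theorem sum_subgroup (H : Subgroup G) [Fintype H] :
    ∃ n : ℕ, ∑ u : H, S.w u = (Nat.card H : ℤ) * n := by
  haveI := Fintype.ofFinite G
  obtain ⟨n, hn⟩ := H80.ClassMult.exists_sum_subgroup S.χ H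
  refine ⟨n, ?_⟩
  simp only [w_spec S] at hn
  exact_mod_cast hn

theorem sum_prime_nonneg {q : ℕ} (hq : q.Prime) (hqG : q ∣ Nat.card G) {g : G}
    (hg : orderOf g = q) : 0 ≤ (S.f : ℤ) + ((q : ℤ) - 1) * S.w g := by
  classical
  haveI : Fact q.Prime := ⟨hq⟩
  haveI := Fintype.ofFinite (Subgroup.zpowers g)
  obtain ⟨n, hn⟩ := sum_subgroup S (Subgroup.zpowers g)
  have hval : ∀ u : Subgroup.zpowers g, (u : G) ≠ 1 → S.w u = S.w g := by
    rintro ⟨u, hu⟩ hu1
    obtain ⟨i, -, rfl⟩ := (IsOfFinOrder.mem_zpowers_iff_mem_range_orderOf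
      (isOfFinOrder_of_finite g)).1 hu |> fun h => Finset.mem_image.1 h
    -- a power prime to `q`, lifted to an exponent prime to `|G|`
    have hiq : ¬ q ∣ i := fun hd => hu1 (orderOf_dvd_iff_pow_eq_one.1 (hg ▸ hd))
    obtain ⟨k, hk, hkc⟩ := exists_coprime_rep hq hqG Nat.card_pos hiq
    have h := χ_pow S hkc g
    rw [show g ^ k = g ^ i from pow_eq_pow_iff_modEq.2 (hg ▸ hk), w_spec, w_spec] at h
    exact_mod_cast h
  rw [← Finset.add_sum_erase _ _ (Finset.mem_univ (1 : Subgroup.zpowers g)), OneMemClass.coe_one,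
    w_one, Finset.sum_congr rfl (g := fun _ => S.w g) fun u hu => hval u fun h =>
      (Finset.ne_of_mem_erase hu) (Subtype.ext h),
    Finset.sum_const, Finset.card_erase_of_mem (Finset.mem_univ _), Finset.card_univ,
    ← Nat.card_eq_fintype_card, Nat.card_zpowers, hg, nsmul_eq_mul, Nat.cast_sub hq.one_le] at hn
  push_cast at hn
  rw [hn]
  positivity

theorem w_lt {g : G} (hg : g ≠ 1) : S.w g < S.f := by
  classical
  haveI := Fintype.ofFinite G
  have hle : S.w g ≤ S.f := by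
    have h := norm_apply_le (isCharacter_irr S.χ) g
    rw [χ_one, w_spec, Complex.norm_intCast, Complex.norm_natCast] at h
    have : (S.w g : ℝ) ≤ ((S.f : ℤ) : ℝ) := by
      push_cast
      exact (le_abs_self _).trans h
    exact_mod_cast this
  refine lt_of_le_of_ne hle fun h => ?_
  have h1 : S.χ = oneChar G := Inv59.EightChar.eq_one_of_apply_eq hg S.χ (by
    rw [w_spec, χ_one, h]; simp)
  exact S.D.one_not_mem (h1 ▸ χ_mem S)

theorem orth {g : G} (hg : ¬ p ∣ orderOf g) :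
    1 + S.w g ^ 2 + (((p - 1) / 2 : ℕ) : ℤ) * (S.w g + S.D.δ) ^ 2 ≤
      (Nat.card (Subgroup.centralizer ({g} : Set G)) : ℤ) := by
  have h := S.D.centralizer_le hg (fun _ => S.w g) (S.w g + S.D.δ)
    (fun c hc => by
      rw [S.K_eq, Finset.mem_singleton] at hc
      rw [hc, w_spec])
    (θ_val S hg S.D.θ_mem)
  rw [S.K_eq, Finset.sum_singleton, show S.D.fam.card = (p - 1) / 2 by
    have := S.D.fam_card; omega] at h
  exact h

end Cfsg.Agent.Lib.LargePrimeTwo42.Chars
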