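import Cfsg.Agent.Lib.LargePrimeTwo42.Chars

/-!
# The class of involutions and the row relations
-/

set_option autoImplicit false
set_option linter.style.haveILetI false
set_option linter.unusedSectionVars false

namespace Cfsg.Agent.Lib.LargePrimeTwo42.Classes

open Cfsg.Agent.Lib Cfsg.Agent.Lib.Classif Cfsg.Agent.Lib.Characters
open Cfsg.Agent.Lib.Characters.Basic
open Cfsg.Agent.Lib.Classif.PrimeExceptional (deg apply_one_eq)
open Numeric (eOf ww)
open Chars
open scoped ComplexConjugate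

universe u

variable {G : Type u} [Group G] [Finite G] [IsSimpleGroup G] {p : ℕ} [hp : Fact p.Prime]
  (S : Setup G p)

/-- `|C(g)|`. -/
noncomputable def cc (g : G) : ℕ := Nat.card (Subgroup.centralizer ({g} : Set G))

theorem cc_pos (g : G) : 0 < cc g := Nat.card_pos

include S in
theorem regular_of_two {z : G} (hz : orderOf z = 2) : ¬ p ∣ orderOf z := by
  rw [hz]
  intro h
  have := Nat.le_of_dvd (by norm_num) h
  have := S.p5
  omega

theorem mem_P_of_pow {g : G} (hg : g ∈ Subgroup.normalizer ((S.P : Subgroup G) : Set G))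
    (hgp : orderOf g = p) : g ∈ (S.P : Subgroup G) := by
  have hK : IsPGroup p (Subgroup.zpowers g) :=
    IsPGroup.of_card (n := 1) (by rw [Nat.card_zpowers, hgp, pow_one])
  have hsup := hK.to_sup_of_normal_right' S.P.isPGroup' (Subgroup.zpowers_le.2 hg)
  have := S.P.is_maximal' hsup le_sup_right
  exact this ▸ Subgroup.mem_sup_left (Subgroup.mem_zpowers g)

/-- The sum of the values over the normaliser of `P`. -/
theorem normalizer_bound {z : G} (hz : orderOf z = 2) (hv : ∀ u : G, orderOf u = 2 → S.w u = S.w z) :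
    0 ≤ (S.f : ℤ) + ((p : ℤ) - 1) * S.D.δ + p * S.w z := by
  classical
  set N := Subgroup.normalizer ((S.P : Subgroup G) : Set G) with hN
  haveI := Fintype.ofFinite N
  haveI := Fintype.ofFinite (S.P : Subgroup G)
  obtain ⟨n, hn⟩ := sum_subgroup S N
  set A := (Finset.univ.erase (1 : N)).filter fun u : N => p ∣ orderOf (u : G) with hA
  have hAc : A.card = p - 1 := by
    have himg : A.image (fun u : N => (u : G)) =
        ((Finset.univ : Finset (S.P : Subgroup G)).erase 1).image
          (fun u : (S.P : Subgroup G) => (u : G)) := by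
      ext g
      simp only [Finset.mem_image, hA, Finset.mem_filter, Finset.mem_erase, Finset.mem_univ,
        and_true]
      constructor
      · rintro ⟨u, ⟨hu1, hu⟩, rfl⟩
        exact ⟨⟨u, mem_P_of_pow S u.2 (order_singular S hu)⟩,
          fun h => hu1 (Subtype.ext (by simpa using congrArg Subtype.val h)), rfl⟩
      · rintro ⟨u, hu1, rfl⟩
        refine ⟨⟨u, Subgroup.le_normalizer u.2⟩,
          ⟨fun h => hu1 (Subtype.ext (by simpa using congrArg Subtype.val h)), ?_⟩, rfl⟩
        have h := orderOf_dvd_natCard u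
        rw [S.hP, ← Subgroup.orderOf_coe] at h
        rcases (Nat.dvd_prime hp.out).1 h with h | h
        · exact absurd (Subtype.ext (orderOf_eq_one_iff.1 h)) hu1
        · exact h.symm.dvd
    have h := congrArg Finset.card himg
    rwa [Finset.card_image_of_injective _ Subtype.val_injective,
      Finset.card_image_of_injective _ Subtype.val_injective,
      Finset.card_erase_of_mem (Finset.mem_univ _), Finset.card_univ, ← Nat.card_eq_fintype_card,
      S.hP] at h
  have hB : ∀ u ∈ (Finset.univ.erase (1 : N)).filter (fun u : N => ¬ p ∣ orderOf (u : G)),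
      S.w u = S.w z := fun u hu => by
    obtain ⟨hu1, hu⟩ := Finset.mem_filter.1 hu
    refine hv _ ?_
    have h := orderOf_dvd_natCard u
    rw [S.hN, ← Subgroup.orderOf_coe] at h
    have h2 := (hp.out.coprime_iff_not_dvd.2 hu).symm.dvd_of_dvd_mul_right h
    rcases (Nat.dvd_prime Nat.prime_two).1 h2 with h3 | h3
    · exact absurd (Subtype.ext (orderOf_eq_one_iff.1 h3)) (Finset.ne_of_mem_erase hu1)
    · exact h3
  rw [← Finset.add_sum_erase _ _ (Finset.mem_univ (1 : N)), OneMemClass.coe_one, w_one,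
    ← Finset.sum_filter_add_sum_filter_not (Finset.univ.erase (1 : N))
      (fun u : N => p ∣ orderOf (u : G)), ← hA,
    Finset.sum_congr rfl (g := fun _ => S.D.δ) fun u hu =>
      w_singular S (Finset.mem_filter.1 hu).2,
    Finset.sum_congr rfl hB, Finset.sum_const, Finset.sum_const, hAc, nsmul_eq_mul, nsmul_eq_mul,
    S.hN] at hn
  have hcard := Finset.card_filter_add_card_filter_not (s := Finset.univ.erase (1 : N))
    (fun u : N => p ∣ orderOf (u : G))
  rw [← hA, hAc, Finset.card_erase_of_mem (Finset.mem_univ _), Finset.card_univ,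
    ← Nat.card_eq_fintype_card, S.hN] at hcard
  have hp1 := hp.out.one_le
  rw [show ((Finset.univ.erase (1 : N)).filter fun u : N => ¬ p ∣ orderOf (u : G)).card = p by
    omega, Nat.cast_sub hp1] at hn
  have : (0 : ℤ) ≤ ((2 * p : ℕ) : ℤ) * n := by positivity
  push_cast at hn this ⊢
  linarith

/-- Conjugates of an involution meet the normaliser of `P`. -/
theorem exists_conj_normalizer {z : G} (hz : orderOf z = 2) :
    ∃ b : G, b * z * b⁻¹ ∈ Subgroup.normalizer ((S.P : Subgroup G) : Set G) := by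
  classical
  haveI := Fintype.ofFinite G
  by_contra hno
  push Not at hno
  have hz1 : z ≠ 1 := fun h => by rw [h, orderOf_one] at hz; norm_num at hz
  have h := ClassSum.class_sum_zero S.P S.hP S.hC S.D S.hN (regular_of_two S hz)
    (by rw [← pow_two, ← hz]; exact pow_orderOf_eq_one z) hno
  rw [S.K_eq, Finset.sum_singleton, S.a_eq, S.deg_χ, θ_deg, w_spec,
    θ_val S (regular_of_two S hz) S.D.θ_mem] at h
  have hG : (Nat.card G : ℂ) ≠ 0 := Nat.cast_ne_zero.2 Nat.card_pos.ne'
  have h' := (mul_eq_zero.1 h).resolve_left hG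
  have hf : (S.f : ℂ) ≠ 0 := Nat.cast_ne_zero.2 (by have := S.two_le_f; omega)
  have he : (S.e : ℂ) ≠ 0 := Nat.cast_ne_zero.2 (by have := two_le_e S; omega)
  push_cast at h'
  field_simp at h'
  have he' : (S.e : ℂ) = (S.f : ℂ) + S.D.δ := by exact_mod_cast e_eq S
  have hδ : (S.D.δ : ℂ) * S.D.δ = 1 := by exact_mod_cast δ_sq S
  have hsq : ((S.f : ℂ) - S.w z) ^ 2 = 0 := by
    rcases S.D.δ_unit with d | d <;> simp only [d, Int.cast_one, Int.cast_neg] at h' he' <;>
      rw [he'] at h' <;> linear_combination h'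
  have hsq' : ((S.f : ℤ) - S.w z) ^ 2 = 0 := by exact_mod_cast hsq
  have := w_lt S hz1
  nlinarith

include S in
theorem isConj_involution {y z : G} (hy : orderOf y = 2) (hz : orderOf z = 2) : IsConj y z := by
  classical
  obtain ⟨a, ha⟩ := exists_conj_normalizer S hy
  obtain ⟨b, hb⟩ := exists_conj_normalizer S hz
  haveI : Fact (Nat.Prime 2) := ⟨Nat.prime_two⟩
  set N := Subgroup.normalizer ((S.P : Subgroup G) : Set G) with hN
  have mk : ∀ u : N, orderOf (u : G) = 2 → ∀ T : Sylow 2 N, (Subgroup.zpowers u) ≤ T →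
      (T : Subgroup N) = Subgroup.zpowers u := fun u hu T hT => by
    refine (Subgroup.eq_of_le_of_card_ge hT ?_).symm
    rw [Nat.card_zpowers, ← Subgroup.orderOf_coe, hu, Sylow.card_eq_multiplicity, S.hN]
    have h0 : ¬ 2 ∣ p := fun h => by
      have := (Nat.prime_dvd_prime_iff_eq Nat.prime_two hp.out).1 h
      have := S.p5
      omega
    rw [Nat.factorization_mul (by norm_num) hp.out.ne_zero, Finsupp.add_apply,
      Nat.prime_two.factorization_self, Nat.factorization_eq_zero_of_not_dvd h0]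
    norm_num
  set u : N := ⟨_, ha⟩
  set v : N := ⟨_, hb⟩
  have hu : orderOf (u : G) = 2 := ((MulAut.conj a).orderOf_eq y).trans hy
  have hv : orderOf (v : G) = 2 := ((MulAut.conj b).orderOf_eq z).trans hz
  obtain ⟨T, hT⟩ := (IsPGroup.of_card (p := 2) (n := 1) (G := Subgroup.zpowers u)
    (by rw [Nat.card_zpowers, ← Subgroup.orderOf_coe, hu, pow_one])).exists_le_sylow
  obtain ⟨T', hT'⟩ := (IsPGroup.of_card (p := 2) (n := 1) (G := Subgroup.zpowers v)
    (by rw [Nat.card_zpowers, ← Subgroup.orderOf_coe, hv, pow_one])).exists_le_sylow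
  obtain ⟨c, hc⟩ := MulAction.exists_smul_eq N T T'
  have hmem : c * u * c⁻¹ ∈ Subgroup.zpowers v := by
    rw [← mk v hv T' hT', ← hc, Sylow.coe_subgroup_smul, mk u hu T hT]
    exact Subgroup.smul_mem_pointwise_smul u (MulAut.conj c) _ (Subgroup.mem_zpowers u)
  obtain ⟨i, hi⟩ := Subgroup.mem_zpowers_iff.1 hmem
  rw [← zpow_mod_orderOf, ← Subgroup.orderOf_coe, hv] at hi
  rcases Int.emod_two_eq_zero_or_one i with e | e
  · rw [show i % ((2 : ℕ) : ℤ) = 0 from e, zpow_zero] at hi
    have h1 := congrArg Subtype.val (conj_eq_one_iff.1 hi.symm)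
    rw [OneMemClass.coe_one] at h1
    rw [h1, orderOf_one] at hu
    norm_num at hu
  · rw [show i % ((2 : ℕ) : ℤ) = 1 from e, zpow_one] at hi
    have h1 : (c : G) * (a * y * a⁻¹) * (c : G)⁻¹ = b * z * b⁻¹ := congrArg Subtype.val hi.symm
    refine isConj_iff.2 ⟨b⁻¹ * c * a, ?_⟩
    calc b⁻¹ * c * a * y * (b⁻¹ * c * a)⁻¹ = b⁻¹ * ((c : G) * (a * y * a⁻¹) * (c : G)⁻¹) * b := by
          group
      _ = z := by rw [h1]; group

/-- The class relation at the involutions. -/
theorem class_eq {z : G} (hz : orderOf z = 2) :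
    ((cc z : ℤ) ^ 2) * (S.f * S.e) = S.M * ((S.f : ℤ) - S.w z) ^ 2 := by
  classical
  haveI := Fintype.ofFinite G
  obtain ⟨b, hb⟩ := exists_conj_normalizer S hz
  have hu : orderOf (b * z * b⁻¹) = 2 := ((MulAut.conj b).orderOf_eq z).trans hz
  have h := ClassSum.class_sum S.P S.hP (by have := S.p5; omega) S.hC S.D S.hN hb hu
  rw [S.K_eq, Finset.sum_singleton, S.a_eq, S.deg_χ, θ_deg, w_spec, w_conj,
    θ_val S (regular_of_two S hu) S.D.θ_mem, w_conj, card_G S] at h
  have hcc : Nat.card (Subgroup.centralizer ({b * z * b⁻¹} : Set G)) = cc z := by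
    have h1 := SmallGroups.Counting.card_isConj_mul (b * z * b⁻¹)
    have h2 := SmallGroups.Counting.card_isConj_mul z
    rw [Nat.card_congr (Equiv.subtypeEquivRight fun y => (show IsConj (b * z * b⁻¹) y ↔ IsConj z y
      from ⟨fun h => (isConj_iff.2 ⟨b, rfl⟩).trans h,
        fun h => (isConj_iff.2 ⟨b, rfl⟩).symm.trans h⟩))] at h1
    haveI : Nonempty {y : G // IsConj z y} := ⟨⟨z, IsConj.refl z⟩⟩
    exact Nat.eq_of_mul_eq_mul_left Nat.card_pos (h1.trans h2.symm)
  rw [hcc] at h
  have hf : (S.f : ℂ) ≠ 0 := Nat.cast_ne_zero.2 (by have := S.two_le_f; omega)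
  have he : (S.e : ℂ) ≠ 0 := Nat.cast_ne_zero.2 (by have := two_le_e S; omega)
  push_cast at h
  field_simp at h
  have he' : (S.e : ℂ) = (S.f : ℂ) + S.D.δ := by exact_mod_cast e_eq S
  rw [← Int.cast_inj (α := ℂ)]
  push_cast
  refine mul_left_cancel₀ (show (p : ℂ) ≠ 0 from Nat.cast_ne_zero.2 hp.out.ne_zero) ?_
  rcases S.D.δ_unit with d | d <;> simp only [d, Int.cast_one, Int.cast_neg] at h he' <;>
    rw [he'] at h ⊢ <;> linear_combination -h

/-- The class algebra relation. -/
theorem class_dvd {z h : G} (hz : orderOf z = 2) (hh : ¬ p ∣ orderOf h) (hh1 : h ≠ 1) :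
    (cc h : ℤ) * ((S.f : ℤ) - S.w z) ∣ (cc z : ℤ) * ((S.f : ℤ) - S.w h) := by
  classical
  haveI := Fintype.ofFinite G
  haveI := Fintype.ofFinite (Cfsg.IrrCharacter G)
  obtain ⟨⟨x, hxP⟩, hx⟩ := exists_prime_orderOf_dvd_card' (G := (S.P : Subgroup G)) p
    (by rw [S.hP])
  rw [Subgroup.orderOf_mk] at hx
  have hx' : p ∣ orderOf x⁻¹ := by rw [orderOf_inv, hx]
  have hzr := regular_of_two S hz
  obtain ⟨k, hk⟩ := RecogThree.L33.Order.Mult.dvd_card_sols z h x
  have hS := RecogThree.L33.Order.Mult.card_sols z h x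
  set F : Cfsg.IrrCharacter G → ℂ := fun c =>
    (c : G → ℂ) x⁻¹ * (c : G → ℂ) z * (c : G → ℂ) h / (c : G → ℂ) 1 with hF
  have hsum : ∑ c, F c = F (oneChar G) + (F S.χ + ∑ c ∈ S.D.fam, F c) := by
    rw [← Finset.sum_singleton F S.χ, ← S.K_eq, ← Finset.sum_union S.D.fam_disj,
      ← Finset.sum_insert (a := oneChar G) (by simp [S.D.one_not_mem, S.D.fam_one])]
    refine (Finset.sum_subset (Finset.subset_univ _) fun c _ hc => ?_).symm
    simp only [Finset.mem_insert, Finset.mem_union, not_or] at hc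
    simp [hF, other_zero S c hc.1 hc.2.1 hc.2.2 hx']
  rw [hsum] at hS
  have hfam : ∑ c ∈ S.D.fam, F c = -(S.D.δ : ℂ) * ((S.w z + S.D.δ : ℤ) : ℂ) *
      ((S.w h + S.D.δ : ℤ) : ℂ) / (S.e : ℂ) := by
    rw [← S.D.fam_singular S.hC _ hx', Finset.sum_mul, Finset.sum_mul, Finset.sum_div]
    refine Finset.sum_congr rfl fun c hc => ?_
    rw [hF]
    simp only
    rw [θ_val S hzr hc, θ_val S hh hc, apply_one_eq, S.D.fam_deg c hc, θ_deg]
    simp
  rw [hfam, hk] at hS
  simp only [hF, value_singular S hx', w_spec S z, w_spec S h, χ_one, oneChar_apply,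
    card_G S] at hS
  have hf : (S.f : ℂ) ≠ 0 := Nat.cast_ne_zero.2 (by have := S.two_le_f; omega)
  have he : (S.e : ℂ) ≠ 0 := Nat.cast_ne_zero.2 (by have := two_le_e S; omega)
  push_cast at hS
  field_simp at hS
  have he' : (S.e : ℂ) = (S.f : ℂ) + S.D.δ := by exact_mod_cast e_eq S
  have key : ((cc z * cc h * k * (S.f * S.e) : ℕ) : ℤ) =
      (p : ℤ) * S.M * (((S.f : ℤ) - S.w z) * ((S.f : ℤ) - S.w h)) := by
    rw [← Int.cast_inj (α := ℂ)]
    unfold cc
    push_cast
    rcases S.D.δ_unit with d | d <;> simp only [d, Int.cast_one, Int.cast_neg] at hS he' <;>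
      rw [he'] at hS ⊢ <;> linear_combination hS
  have hcl := class_eq S hz
  set D := (S.f : ℤ) - S.w z with hD
  set X := (S.f : ℤ) - S.w h with hX
  have hD0 : 0 < D := by
    have := w_lt S (g := z) (fun e => by rw [e, orderOf_one] at hz; norm_num at hz)
    omega
  have hM0 : (S.M : ℤ) ≠ 0 := by have := M_pos S; omega
  push_cast at key
  have h1 : (cc h : ℤ) * k * D = p * X * cc z := by
    apply mul_left_cancel₀ (mul_ne_zero hM0 hD0.ne')
    calc (S.M : ℤ) * D * ((cc h : ℤ) * k * D) = (cc h : ℤ) * k * (S.M * D ^ 2) := by ring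
      _ = (cc h : ℤ) * k * ((cc z : ℤ) ^ 2 * (S.f * S.e)) := by rw [hcl]
      _ = cc z * ((cc z : ℤ) * cc h * k * (S.f * S.e)) := by ring
      _ = cc z * ((p : ℤ) * S.M * (D * X)) := by rw [key]
      _ = S.M * D * (p * X * cc z) := by ring
  have hco : IsCoprime ((cc h : ℤ) * D) (p : ℤ) := by
    rw [isCoprime_comm, (Nat.prime_iff_prime_int.1 hp.out).coprime_iff_not_dvd]
    intro hd
    rcases (Nat.prime_iff_prime_int.1 hp.out).dvd_mul.1 hd with hd | hd
    · exact not_dvd_M S ((Int.natCast_dvd_natCast.1 hd).trans (cent_dvd_M S hh hh1))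
    · have h2 : (p : ℤ) ∣ (cc z : ℤ) ^ 2 * (S.f * S.e) := by
        rw [hcl]; exact (dvd_pow hd two_ne_zero).mul_left _
      have hzne : z ≠ 1 := fun e => by rw [e, orderOf_one] at hz; norm_num at hz
      have h3 : p ∣ cc z ^ 2 * (S.f * S.e) := by exact_mod_cast h2
      rcases hp.out.dvd_mul.1 h3 with h4 | h4
      · exact not_dvd_M S ((hp.out.dvd_of_dvd_pow h4).trans (cent_dvd_M S hzr hzne))
      · exact (hp.out.dvd_mul.1 h4).elim (not_dvd_f S) (not_dvd_e S)
  exact hco.dvd_of_dvd_mul_left ⟨k, by linarith⟩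

/-- A regular element. -/
noncomputable def reg [Fintype G] [DecidableEq G] (p : ℕ) : Finset G :=
  Finset.univ.filter fun g => g ≠ 1 ∧ ¬ p ∣ orderOf g

theorem card_singular [Fintype G] [DecidableEq G] :
    (Finset.univ.filter fun g : G => p ∣ orderOf g).card * 2 = S.M * (p - 1) := by
  classical
  have hall : ∑ g : G, (Finset.univ.filter fun a : G =>
      a⁻¹ * g * a ∈ (S.P : Subgroup G) ∧ a⁻¹ * g * a ≠ 1).card = Nat.card G * (p - 1) := by
    simp only [Finset.card_filter]
    rw [Finset.sum_comm, Finset.sum_congr rfl (g := fun _ => p - 1) fun a _ => ?_,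
      Finset.sum_const, smul_eq_mul, Finset.card_univ, ← Nat.card_eq_fintype_card]
    haveI := Fintype.ofFinite (S.P : Subgroup G)
    rw [← Finset.card_filter]
    let e : {g : G // a⁻¹ * g * a ∈ (S.P : Subgroup G) ∧ a⁻¹ * g * a ≠ 1} ≃
        {y : (S.P : Subgroup G) // y ≠ 1} :=
      { toFun := fun g => ⟨⟨a⁻¹ * g.1 * a, g.2.1⟩, fun e => g.2.2 (congrArg Subtype.val e)⟩
        invFun := fun y => ⟨a * y.1.1 * a⁻¹, by
          rw [show a⁻¹ * (a * y.1.1 * a⁻¹) * a = y.1.1 by group]
          exact ⟨y.1.2, fun e => y.2 (Subtype.ext e)⟩⟩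
        left_inv := fun g => Subtype.ext (show a * (a⁻¹ * g.1 * a) * a⁻¹ = g.1 by group)
        right_inv := fun y => Subtype.ext (Subtype.ext
          (show a⁻¹ * (a * y.1.1 * a⁻¹) * a = y.1.1 by group)) }
    rw [← Fintype.card_subtype, ← Nat.card_eq_fintype_card, Nat.card_congr e,
      Nat.card_eq_fintype_card, Fintype.card_subtype_compl, Fintype.card_subtype_eq,
      ← Nat.card_eq_fintype_card, S.hP]
  rw [← Finset.sum_filter_add_sum_filter_not Finset.univ (fun g : G => p ∣ orderOf g),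
    Finset.sum_congr rfl (g := fun _ => 2 * p) fun g hg => by
      rw [← Fintype.card_subtype, ← Nat.card_eq_fintype_card,
        ClassSum.card_conj_mem_indicator S.P S.hP S.hC (Finset.mem_filter.mp hg).2, S.hN],
    Finset.sum_const, smul_eq_mul, card_G S] at hall
  rw [Finset.sum_eq_zero fun g hg => ?_, add_zero] at hall
  · exact Nat.eq_of_mul_eq_mul_left hp.out.pos (by linarith)
  · refine Finset.card_eq_zero.mpr (Finset.filter_eq_empty_iff.mpr fun a _ ha => ?_)
    apply (Finset.mem_filter.mp hg).2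
    have h1 : orderOf (a⁻¹ * g * a) = orderOf g := by
      simpa using (MulAut.conj a⁻¹).orderOf_eq g
    have h2 := Subgroup.orderOf_dvd_natCard _ ha.1
    rw [S.hP] at h2
    rcases (Nat.dvd_prime hp.out).mp h2 with e | e
    · exact absurd (orderOf_eq_one_iff.mp e) ha.2
    · rw [← h1, e]

theorem sum_w [Fintype G] : ∑ g : G, S.w g = 0 := by
  have hone : S.χ ≠ oneChar G := fun h => S.D.one_not_mem (h ▸ χ_mem S)
  have h := classInner_irr_of_ne hone
  rw [Cfsg.classInner] at h
  have h' := (mul_eq_zero.mp h).resolve_left (inv_ne_zero (Nat.cast_ne_zero.mpr Nat.card_pos.ne'))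
  simp only [w_spec S, oneChar_apply, map_one, mul_one] at h'
  exact_mod_cast h'

/-- The row relations. -/
theorem row [Fintype G] [DecidableEq G] :
    S.f * S.e ≤ S.M ∧ ∑ g ∈ reg (G := G) p, ww S.D.δ (S.w g) = S.M - S.f * S.e := by
  classical
  have hsing := card_singular S
  have hsq : ∑ g : G, S.w g ^ 2 = (Nat.card G : ℤ) := by
    have h := classInner_irr S.χ S.χ
    rw [if_pos rfl, Cfsg.classInner] at h
    rw [inv_mul_eq_one₀ (Nat.cast_ne_zero.mpr Nat.card_pos.ne')] at h
    simp only [w_spec S, map_intCast] at h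
    rw [← Int.cast_inj (α := ℂ)]
    push_cast
    rw [h]
    exact Finset.sum_congr rfl fun g _ => pow_two _
  have hlin := sum_w S
  have htot : ∑ g : G, S.w g * (S.w g + S.D.δ) = (p : ℤ) * S.M := by
    simp only [mul_add, Finset.sum_add_distrib, ← Finset.sum_mul, hlin, zero_mul, add_zero,
      ← pow_two, hsq, card_G S, Nat.cast_mul]
  rw [← Finset.sum_filter_add_sum_filter_not Finset.univ (fun g : G => p ∣ orderOf g),
    Finset.sum_congr rfl (g := fun _ => (2 : ℤ)) fun g hg => by
      rw [w_singular S (Finset.mem_filter.1 hg).2]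
      linarith [δ_sq S],
    Finset.sum_const, nsmul_eq_mul] at htot
  have hR : (Finset.univ.filter fun g : G => ¬ p ∣ orderOf g) = insert 1 (reg (G := G) p) := by
    ext g
    simp only [reg, Finset.mem_insert, Finset.mem_filter, Finset.mem_univ, true_and]
    by_cases hg : g = 1
    · simp [hg, hp.out.ne_one]
    · simp [hg]
  rw [hR, Finset.sum_insert (by simp [reg]), w_one, ← e_eq S] at htot
  have hww : ∑ g ∈ reg (G := G) p, S.w g * (S.w g + S.D.δ) =
      ((∑ g ∈ reg (G := G) p, ww S.D.δ (S.w g) : ℕ) : ℤ) := by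
    push_cast
    refine Finset.sum_congr rfl fun g _ => (Int.toNat_of_nonneg ?_).symm
    rcases S.D.δ_unit with d | d <;> rw [d] <;> rcases le_or_gt 1 (S.w g) with h | h <;>
      rcases le_or_gt (S.w g) (-1) with h' | h' <;>
      first | nlinarith | (rw [show S.w g = 0 by omega]; norm_num)
  rw [hww] at htot
  have hs : (((Finset.univ.filter fun g : G => p ∣ orderOf g).card : ℕ) : ℤ) * 2 =
      (S.M : ℤ) * ((p : ℤ) - 1) := by
    have h1 := congrArg (Nat.cast : ℕ → ℤ) hsing
    rw [Nat.cast_mul, Nat.cast_mul, Nat.cast_sub hp.out.one_le] at h1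
    simpa using h1
  generalize ∑ g ∈ reg (G := G) p, ww S.D.δ (S.w g) = X at htot
  rw [hs] at htot
  have h2 : ((S.f * S.e + X : ℕ) : ℤ) = (S.M : ℤ) := by push_cast; linarith
  have : S.f * S.e + X = S.M := by exact_mod_cast h2
  omega

include S in
theorem four_dvd : 4 ∣ S.M := by
  classical
  haveI : Fact (Nat.Prime 2) := ⟨Nat.prime_two⟩
  have h2 : 2 ∣ Nat.card G := by
    rw [card_G S, ← (sylow_mod S).2]; exact (dvd_mul_right _ _).mul_left _
  by_contra h4
  obtain ⟨T⟩ : Nonempty (Sylow 2 G) := inferInstance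
  have hT : Nat.card (T : Subgroup G) = 2 := by
    rw [Sylow.card_eq_multiplicity]
    have hpos := Nat.prime_two.factorization_pos_of_dvd Nat.card_pos.ne' h2
    have hlt : ¬ 2 ≤ (Nat.card G).factorization 2 := fun h => h4 (by
      refine dvd_M S ((Nat.prime_two.pow_dvd_iff_le_factorization Nat.card_pos.ne').2 h) ?_
      intro hd
      have := Nat.le_of_dvd (by norm_num) hd
      have := S.p5
      omega)
    rw [show (Nat.card G).factorization 2 = 1 by omega, pow_one]
  haveI : Fact (Nat.Prime 2) := ⟨Nat.prime_two⟩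
  have hcyc : IsCyclic (T : Subgroup G) := isCyclic_of_prime_card hT
  refine SmallGroups.Sylow.not_normalizer_le_centralizer S.hG T ?_
    (hcyc.normalizer_le_centralizer ((Nat.minFac_eq_two_iff _).2 h2))
  intro hb
  rw [hb, Subgroup.card_bot] at hT
  norm_num at hT

include S in
/-- An element of order `q` in the centre of a Sylow `q`-subgroup. -/
theorem exists_central {q : ℕ} (hq : q.Prime) (hqM : q ∣ S.M) (hqp : q ≠ p) :
    ∃ u : G, orderOf u = q ∧ q ^ S.M.factorization q ∣ cc u := by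
  haveI : Fact q.Prime := ⟨hq⟩
  obtain ⟨Q⟩ : Nonempty (Sylow q G) := inferInstance
  have hQ : Nat.card (Q : Subgroup G) = q ^ S.M.factorization q := by
    rw [Sylow.card_eq_multiplicity, card_G S, Nat.factorization_mul hp.out.ne_zero (M_pos S).ne',
      Finsupp.add_apply, Nat.factorization_eq_zero_of_not_dvd (n := p)
        (fun h => hqp ((Nat.prime_dvd_prime_iff_eq hq hp.out).1 h)), zero_add]
  have hpos := hq.factorization_pos_of_dvd (M_pos S).ne' hqM
  haveI : Nontrivial (Q : Subgroup G) := Finite.one_lt_card_iff_nontrivial.1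
    (hQ ▸ Nat.one_lt_pow hpos.ne' hq.one_lt)
  haveI := Q.isPGroup'.center_nontrivial
  obtain ⟨n, hn0, hn⟩ :=
    (Q.isPGroup'.to_subgroup (Subgroup.center (Q : Subgroup G))).nontrivial_iff_card.1 inferInstance
  obtain ⟨c, hc⟩ := exists_prime_orderOf_dvd_card' (G := Subgroup.center (Q : Subgroup G)) q
    (by rw [hn]; exact dvd_pow_self q hn0.ne')
  refine ⟨(c : (Q : Subgroup G)), by rw [Subgroup.orderOf_coe, Subgroup.orderOf_coe, hc], ?_⟩
  rw [← hQ]
  refine Subgroup.card_dvd_of_le fun x hx => ?_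
  rw [Subgroup.mem_centralizer_singleton_iff]
  exact congrArg Subtype.val (Subgroup.mem_center_iff.1 c.2 ⟨x, hx⟩)

end Cfsg.Agent.Lib.LargePrimeTwo42.Classes
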