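import Cfsg.Agent.S0344
import Cfsg.Agent.Lib.SmallGroups.Counting

/-!
# Sylow subgroups that are centralisers of each of their elements

If every non-trivial `q`-element has a centraliser of order `f = q ^ k`, `k ≤ 4`, and these elements
number `f ^ 2 - 1`, the conjugation action on the Sylow `q`-subgroups is that of `PSL(2, f)`.
-/

set_option autoImplicit false
set_option linter.style.haveILetI false
set_option linter.unusedSectionVars false

namespace Cfsg.Agent.Lib.LargePrimeTwo42.Zass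

universe u

variable {G : Type u} [Group G] [Finite G] {q k : ℕ} [hq : Fact q.Prime]

/-- The hypotheses. -/
structure Hyp (G : Type u) [Group G] [Finite G] (q k : ℕ) [Fact q.Prime] : Prop where
  card_sylow : ∀ R : Sylow q G, Nat.card (R : Subgroup G) = q ^ k
  card_cent : ∀ g : G, g ≠ 1 → orderOf g ∣ q ^ k →
    Nat.card (Subgroup.centralizer ({g} : Set G)) = q ^ k
  count : Nat.card {g : G // g ≠ 1 ∧ orderOf g ∣ q ^ k} = (q ^ k) ^ 2 - 1
  k_cases : k = 2 ∨ k = 4 ∧ ¬ (q ^ 2 + q + 1 ∣ Nat.card G)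

variable (h : Hyp G q k)

include h

theorem order_dvd (R : Sylow q G) {g : G} (hg : g ∈ (R : Subgroup G)) : orderOf g ∣ q ^ k :=
  h.card_sylow R ▸ Subgroup.orderOf_dvd_natCard _ hg

theorem cent_eq {R : Sylow q G} {g : G} (hg1 : g ≠ 1) (hg : g ∈ (R : Subgroup G))
    (hc : ∀ x ∈ (R : Subgroup G), x * g = g * x) :
    (R : Subgroup G) = Subgroup.centralizer ({g} : Set G) :=
  Subgroup.eq_of_le_of_card_ge (fun x hx => Subgroup.mem_centralizer_singleton_iff.2 (hc x hx))
    (by rw [h.card_cent g hg1 (order_dvd h R hg), h.card_sylow])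

theorem exists_central (R : Sylow q G) :
    ∃ u ∈ (R : Subgroup G), u ≠ 1 ∧ ∀ x ∈ (R : Subgroup G), x * u = u * x := by
  have hk : k ≠ 0 := by rcases h.k_cases with e | ⟨e, -⟩ <;> omega
  haveI : Nontrivial (R : Subgroup G) := Finite.one_lt_card_iff_nontrivial.1
    (h.card_sylow R ▸ Nat.one_lt_pow hk hq.out.one_lt)
  haveI := R.isPGroup'.center_nontrivial
  obtain ⟨u, hu⟩ := exists_ne (1 : Subgroup.center (R : Subgroup G))
  exact ⟨_, u.1.2, fun e => hu (Subtype.ext (Subtype.ext e)), fun x hx =>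
    congrArg Subtype.val (Subgroup.mem_center_iff.1 u.2 ⟨x, hx⟩)⟩

theorem exists_cent_sylow {g : G} (hg1 : g ≠ 1) (hg : orderOf g ∣ q ^ k) :
    ∃ R : Sylow q G, (R : Subgroup G) = Subgroup.centralizer ({g} : Set G) := by
  obtain ⟨R, hR⟩ := (IsPGroup.of_card (h.card_cent g hg1 hg)).exists_le_sylow
  exact ⟨R, (Subgroup.eq_of_le_of_card_ge hR (by rw [h.card_cent g hg1 hg, h.card_sylow R])).symm⟩

theorem sylow_comm_aux (Q : Sylow q G) (hne : ¬ ∀ x ∈ (Q : Subgroup G), ∀ y ∈ (Q : Subgroup G),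
    x * y = y * x) (hk4 : k = 4) :
    ∃ A : Subgroup G, A ≤ (Q : Subgroup G) ∧ Nat.card A = q ^ 3 ∧
      Subgroup.centralizer (A : Set G) = A ∧ Nat.card (Subgroup.center (Q : Subgroup G)) ≤ q ^ 2 := by
  classical
  haveI : Fintype (Q : Subgroup G) := Fintype.ofFinite _
  set H := (Q : Subgroup G) with hH
  have hcard : Nat.card H = q ^ 4 := hk4 ▸ h.card_sylow Q
  set Z := Subgroup.center H with hZ
  obtain ⟨i, hi4, hi⟩ := (Nat.dvd_prime_pow hq.out).1 (hcard ▸ Subgroup.card_subgroup_dvd_card Z)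
  have hq1 := hq.out.one_lt
  have hi0 : i ≠ 0 := by
    rintro rfl
    have hk : k ≠ 0 := by omega
    haveI : Nontrivial H := Finite.one_lt_card_iff_nontrivial.1
      (hcard ▸ Nat.one_lt_pow (by norm_num) hq1)
    haveI : Nontrivial Z := Q.isPGroup'.center_nontrivial
    have := Finite.one_lt_card (α := Z)
    rw [hi, pow_zero] at this
    omega
  have hnc : ¬ ∀ x y : H, x * y = y * x := fun hc => hne fun x hx y hy =>
    congrArg Subtype.val (hc ⟨x, hx⟩ ⟨y, hy⟩)
  -- the quotient by the centre is not cyclic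
  have hi2 : i ≤ 2 := by
    by_contra hc
    have hq' : Nat.card (H ⧸ Z) * q ^ i = q ^ 4 := by
      rw [← hi, ← Subgroup.card_eq_card_quotient_mul_card_subgroup, hcard]
    apply hnc
    haveI : IsCyclic (H ⧸ Z) := by
      rcases (show i = 3 ∨ i = 4 by omega) with rfl | rfl
      · refine isCyclic_of_prime_card (p := q) (Nat.eq_of_mul_eq_mul_right (pow_pos hq.out.pos 3) ?_)
        rw [hq']; ring
      · have : Nat.card (H ⧸ Z) = 1 :=
          Nat.eq_of_mul_eq_mul_right (pow_pos hq.out.pos 4) (by rw [hq', one_mul])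
        haveI := (Nat.card_eq_one_iff_unique.1 this).1
        infer_instance
    exact commutative_of_cyclic_center_quotient (QuotientGroup.mk' Z)
      (by rw [QuotientGroup.ker_mk'])
  -- an element with a centraliser of order at least `q ^ 3`
  obtain ⟨g, hgZ, hg3⟩ : ∃ g : H, g ∉ Z ∧ q ^ 3 ≤ Nat.card (Subgroup.centralizer ({g} : Set H)) := by
    rcases (show i = 1 ∨ i = 2 by omega) with rfl | rfl
    · haveI : Nontrivial (H ⧸ Z) := by
        refine Finite.one_lt_card_iff_nontrivial.1 ?_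
        have hq' : Nat.card (H ⧸ Z) * q ^ 1 = q ^ 4 := by
          rw [← hi, ← Subgroup.card_eq_card_quotient_mul_card_subgroup, hcard]
        have : Nat.card (H ⧸ Z) = q ^ 3 :=
          Nat.eq_of_mul_eq_mul_right (pow_pos hq.out.pos 1) (by rw [hq']; ring)
        rw [this]
        exact Nat.one_lt_pow (by norm_num) hq1
      haveI : Nontrivial (Subgroup.center (H ⧸ Z)) :=
        (Q.isPGroup'.to_quotient Z).center_nontrivial
      obtain ⟨c, hc⟩ := exists_ne (1 : Subgroup.center (H ⧸ Z))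
      obtain ⟨g, hg⟩ := QuotientGroup.mk'_surjective Z (c : H ⧸ Z)
      have hgZ : g ∉ Z := fun hm => hc (Subtype.ext (by
        rw [← hg, OneMemClass.coe_one]; exact (QuotientGroup.eq_one_iff g).2 hm))
      refine ⟨g, hgZ, ?_⟩
      -- at most `q` conjugates
      have hsub : Nat.card {y : H // IsConj g y} ≤ Nat.card Z := by
        refine Nat.card_le_card_of_injective (fun y => ⟨g⁻¹ * y.1, ?_⟩) fun y y' e => ?_
        · obtain ⟨b, hb⟩ := isConj_iff.1 y.2
          rw [← QuotientGroup.eq_one_iff, ← hb]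
          have hm := Subgroup.mem_center_iff.1 c.2 (QuotientGroup.mk' Z b)
          rw [← hg] at hm
          show QuotientGroup.mk' Z (g⁻¹ * (b * g * b⁻¹)) = 1
          simp only [map_mul, map_inv, hm]
          group
        · exact Subtype.ext (mul_left_cancel (congrArg Subtype.val e))
      have hmul : Nat.card {y : H // IsConj g y} * Nat.card (Subgroup.centralizer ({g} : Set H)) =
          q ^ 4 := by
        rw [← hcard]
        exact SmallGroups.Counting.card_isConj_mul g
      rw [hi, pow_one] at hsub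
      by_contra hlt
      have := Nat.mul_lt_mul_of_le_of_lt hsub (not_le.1 hlt) hq.out.pos
      rw [hmul, pow_succ'] at this
      omega
    · obtain ⟨g, hg⟩ : ∃ g : H, g ∉ Z := by
        by_contra hno
        push Not at hno
        exact hnc fun x y => (Subgroup.mem_center_iff.1 (hno y) x)
      refine ⟨g, hg, ?_⟩
      obtain ⟨j, hj4, hj⟩ := (Nat.dvd_prime_pow hq.out).1
        (hcard ▸ Subgroup.card_subgroup_dvd_card (Subgroup.centralizer ({g} : Set H)))
      have hlt : Nat.card Z < Nat.card (Subgroup.centralizer ({g} : Set H)) := by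
        refine lt_of_le_of_ne (Nat.le_of_dvd Nat.card_pos (Subgroup.card_dvd_of_le
          (Subgroup.center_le_centralizer _))) fun e => hg ?_
        rw [hZ, Subgroup.eq_of_le_of_card_ge (Subgroup.center_le_centralizer {g}) e.ge]
        exact Subgroup.mem_centralizer_singleton_iff.2 rfl
      rw [hi, hj] at hlt
      have := (Nat.pow_lt_pow_iff_right hq1).1 hlt
      rw [hj]
      exact Nat.pow_le_pow_right hq.out.pos this
  set K := Subgroup.centralizer ({g} : Set H) with hK
  obtain ⟨j, hj4, hj⟩ := (Nat.dvd_prime_pow hq.out).1 (hcard ▸ Subgroup.card_subgroup_dvd_card K)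
  have hK3 : Nat.card K = q ^ 3 := by
    have h3 : 3 ≤ j := (Nat.pow_le_pow_iff_right hq1).1 (hj ▸ hg3)
    rcases (show j = 3 ∨ j = 4 by omega) with rfl | rfl
    · exact hj
    · exfalso
      apply hgZ
      rw [Subgroup.mem_center_iff]
      intro x
      have hx : x ∈ K := (Subgroup.eq_top_of_card_eq K (hj.trans hcard.symm)) ▸ Subgroup.mem_top x
      exact Subgroup.mem_centralizer_singleton_iff.1 hx
  -- `K` is commutative
  have hKc : ∀ x y : K, x * y = y * x := by
    have hzK : Z ≤ K := Subgroup.center_le_centralizer _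
    have hgK : g ∈ K := Subgroup.mem_centralizer_singleton_iff.2 rfl
    set W := Subgroup.center K with hW
    have hZW : ∀ x : H, ∀ hx : x ∈ Z, (⟨x, hzK hx⟩ : K) ∈ W := fun x hx =>
      Subgroup.mem_center_iff.2 fun y => Subtype.ext (Subgroup.mem_center_iff.1 hx y)
    have hgW : (⟨g, hgK⟩ : K) ∈ W := Subgroup.mem_center_iff.2 fun y =>
      Subtype.ext (Subgroup.mem_centralizer_singleton_iff.1 y.2)
    have hlt : Nat.card Z < Nat.card W := by
      let φ : Z → W := fun x => ⟨⟨x.1, hzK x.2⟩, hZW x.1 x.2⟩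
      have hφ : Function.Injective φ := fun x y e =>
        Subtype.ext (congrArg (fun t : W => ((t : K) : H)) e)
      refine lt_of_le_of_ne (Nat.card_le_card_of_injective φ hφ) fun e => hgZ ?_
      obtain ⟨x, hx⟩ := ((Nat.bijective_iff_injective_and_card φ).2 ⟨hφ, e⟩).2 ⟨_, hgW⟩
      have e2 : (x : H) = g := congrArg (fun t : W => ((t : K) : H)) hx
      exact e2 ▸ x.2
    obtain ⟨l, hl3, hl⟩ := (Nat.dvd_prime_pow hq.out).1 (hK3 ▸ Subgroup.card_subgroup_dvd_card W)
    rw [hi, hl] at hlt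
    have hil := (Nat.pow_lt_pow_iff_right hq1).1 hlt
    have hq' : Nat.card (K ⧸ W) * q ^ l = q ^ 3 := by
      rw [← hl, ← Subgroup.card_eq_card_quotient_mul_card_subgroup, hK3]
    haveI : IsCyclic (K ⧸ W) := by
      rcases (show l = 2 ∨ l = 3 by omega) with rfl | rfl
      · refine isCyclic_of_prime_card (p := q) (Nat.eq_of_mul_eq_mul_right (pow_pos hq.out.pos 2) ?_)
        rw [hq']; ring
      · have : Nat.card (K ⧸ W) = 1 :=
          Nat.eq_of_mul_eq_mul_right (pow_pos hq.out.pos 3) (by rw [hq', one_mul])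
        haveI := (Nat.card_eq_one_iff_unique.1 this).1
        infer_instance
    exact commutative_of_cyclic_center_quotient (QuotientGroup.mk' W) (by rw [QuotientGroup.ker_mk'])
  refine ⟨K.map H.subtype, Subgroup.map_subtype_le _, ?_, ?_, ?_⟩
  · rw [Nat.card_congr (K.equivMapOfInjective _ H.subtype_injective).toEquiv.symm, hK3]
  · refine le_antisymm (fun x hx => ?_) fun x hx => Subgroup.mem_centralizer_iff.2 fun y hy => ?_
    · obtain ⟨u, huH, hu1, huc⟩ := exists_central h Q
      have huA : u ∈ K.map H.subtype := ⟨⟨u, huH⟩,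
        Subgroup.mem_centralizer_singleton_iff.2 (Subtype.ext (huc g g.2).symm), rfl⟩
      have hxQ : x ∈ H := by
        rw [hH, cent_eq h hu1 huH huc]
        exact Subgroup.mem_centralizer_singleton_iff.2
          (Subgroup.mem_centralizer_iff.1 hx u huA).symm
      refine ⟨⟨x, hxQ⟩, Subgroup.mem_centralizer_singleton_iff.2 (Subtype.ext ?_), rfl⟩
      exact (Subgroup.mem_centralizer_iff.1 hx g
        ⟨g, Subgroup.mem_centralizer_singleton_iff.2 rfl, rfl⟩).symm
    · obtain ⟨x', hx', rfl⟩ := hx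
      obtain ⟨y', hy', rfl⟩ := hy
      exact congrArg Subtype.val (congrArg Subtype.val (hKc ⟨y', hy'⟩ ⟨x', hx'⟩))
  · rw [hi]
    exact Nat.pow_le_pow_right hq.out.pos hi2

theorem sylow_comm (Q : Sylow q G) :
    ∀ x ∈ (Q : Subgroup G), ∀ y ∈ (Q : Subgroup G), x * y = y * x := by
  classical
  rcases h.k_cases with rfl | ⟨hk4, hnd⟩
  · intro x hx y hy
    exact congrArg Subtype.val
      (IsPGroup.commutative_of_card_eq_prime_sq (h.card_sylow Q) ⟨x, hx⟩ ⟨y, hy⟩)
  by_contra hne
  obtain ⟨A, hAQ, hA, hCA, hz2⟩ := sylow_comm_aux h Q hne hk4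
  haveI := Fintype.ofFinite G
  set z := Nat.card (Subgroup.center (Q : Subgroup G)) with hz
  have hq1 := hq.out.one_lt
  obtain ⟨i, -, hi⟩ := (Nat.dvd_prime_pow hq.out).1
    (hz ▸ h.card_sylow Q ▸ Subgroup.card_subgroup_dvd_card (Subgroup.center (Q : Subgroup G)))
  -- the Sylow subgroups containing `A`
  set T := Finset.univ.filter fun R : Sylow q G => A ≤ (R : Subgroup G) with hT
  set W := Finset.univ.filter fun g : G => g ∈ A ∧ g ≠ 1 with hW
  have hAo : ∀ g ∈ A, orderOf g ∣ q ^ k := fun g hg => order_dvd h Q (hAQ hg)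
  have hA' : ∀ x ∈ A, ∀ y ∈ A, x * y = y * x := fun x hx y hy => by
    rw [← hCA] at hy
    exact Subgroup.mem_centralizer_iff.1 hy x hx
  let ψ : G → Sylow q G := fun g =>
    if hg : g ∈ A ∧ g ≠ 1 then (exists_cent_sylow h hg.2 (hAo g hg.1)).choose else Q
  have hψ : ∀ g, g ∈ A → g ≠ 1 →
      (ψ g : Subgroup G) = Subgroup.centralizer ({g} : Set G) := fun g hg hg1 => by
    simp only [ψ, dif_pos (And.intro hg hg1)]
    exact (exists_cent_sylow h hg1 (hAo g hg)).choose_spec
  have hmaps : ∀ g ∈ W, ψ g ∈ T := fun g hg => by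
    obtain ⟨hgA, hg1⟩ := (Finset.mem_filter.1 hg).2
    refine Finset.mem_filter.2 ⟨Finset.mem_univ _, fun a ha => ?_⟩
    rw [hψ g hgA hg1]
    exact Subgroup.mem_centralizer_singleton_iff.2 (hA' a ha g hgA)
  have hfib : ∀ R ∈ T, (W.filter fun g => ψ g = R).card = z - 1 := fun R hR => by
    have hAR := (Finset.mem_filter.1 hR).2
    haveI := Fintype.ofFinite (Subgroup.center (R : Subgroup G))
    have himg : (W.filter fun g => ψ g = R) =
        ((Finset.univ : Finset (Subgroup.center (R : Subgroup G))).erase 1).image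
          (fun c : Subgroup.center (R : Subgroup G) => ((c : (R : Subgroup G)) : G)) := by
      ext g
      simp only [hW, Finset.mem_filter, Finset.mem_univ, true_and, Finset.mem_image,
        Finset.mem_erase, and_true]
      constructor
      · rintro ⟨⟨hgA, hg1⟩, hgR⟩
        have hR' := hψ g hgA hg1
        rw [hgR] at hR'
        refine ⟨⟨⟨g, hAR hgA⟩, Subgroup.mem_center_iff.2 fun x => Subtype.ext ?_⟩,
          fun e => hg1 (congrArg (fun c : Subgroup.center (R : Subgroup G) =>
            ((c : (R : Subgroup G)) : G)) e), rfl⟩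
        exact Subgroup.mem_centralizer_singleton_iff.1 (hR' ▸ x.2)
      · rintro ⟨c, hc1, rfl⟩
        have hc1' : ((c : (R : Subgroup G)) : G) ≠ 1 := fun e => hc1 (Subtype.ext (Subtype.ext e))
        have hcc : ∀ x ∈ (R : Subgroup G),
            x * ((c : (R : Subgroup G)) : G) = ((c : (R : Subgroup G)) : G) * x := fun x hx =>
          congrArg Subtype.val (Subgroup.mem_center_iff.1 c.2 ⟨x, hx⟩)
        have hcA : ((c : (R : Subgroup G)) : G) ∈ A := by
          rw [← hCA]
          exact Subgroup.mem_centralizer_iff.2 fun a ha => hcc a (hAR ha)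
        refine ⟨⟨hcA, hc1'⟩, Sylow.ext ?_⟩
        rw [hψ _ hcA hc1']
        exact (cent_eq h hc1' c.1.2 hcc).symm
    rw [himg, Finset.card_image_of_injective _ fun c c' e => Subtype.ext (Subtype.ext e),
      Finset.card_erase_of_mem (Finset.mem_univ _), Finset.card_univ, ← Nat.card_eq_fintype_card,
      hz, Nat.card_congr (Subgroup.centerCongr (Sylow.equiv R Q)).toEquiv]
  have hWc : W.card = q ^ 3 - 1 := by
    rw [hW, show (Finset.univ.filter fun g : G => g ∈ A ∧ g ≠ 1) =
      (Finset.univ.filter fun g : G => g ∈ A).erase 1 by ext g; simp [and_comm],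
      Finset.card_erase_of_mem (by simp), ← Fintype.card_subtype, ← Nat.card_eq_fintype_card, ← hA]
  have hsum : T.card * (z - 1) = q ^ 3 - 1 := by
    rw [← hWc, Finset.card_eq_sum_card_fiberwise hmaps, Finset.sum_congr rfl hfib, Finset.sum_const,
      smul_eq_mul]
  -- `A` is normal in each of them
  have hnorm : ∀ R ∈ T, (R : Subgroup G) ≤ Subgroup.normalizer (A : Set G) := fun R hR => by
    have hAR := (Finset.mem_filter.1 hR).2
    have hidx : (A.subgroupOf (R : Subgroup G)).index = q := by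
      have h1 := Subgroup.card_mul_index (A.subgroupOf (R : Subgroup G))
      rw [Nat.card_congr (Subgroup.subgroupOfEquivOfLe hAR).toEquiv, hA, h.card_sylow R, hk4] at h1
      exact Nat.eq_of_mul_eq_mul_left (pow_pos hq.out.pos 3) (by rw [h1]; ring)
    haveI : (A.subgroupOf (R : Subgroup G)).Normal :=
      Subgroup.normal_of_index_eq_minFac_card (by
        rw [hidx, h.card_sylow R, hk4, hq.out.pow_minFac (by norm_num)])
    exact (Subgroup.normal_subgroupOf_iff_le_normalizer hAR).1 inferInstance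
  have hTcard : T.card = Nat.card (Sylow q (Subgroup.normalizer (A : Set G))) := by
    rw [← Fintype.card_subtype, ← Nat.card_eq_fintype_card]
    let F : {R : Sylow q G // A ≤ (R : Subgroup G)} → Sylow q (Subgroup.normalizer (A : Set G)) :=
      fun R => R.1.subtype (hnorm R.1 (Finset.mem_filter.2 ⟨Finset.mem_univ _, R.2⟩))
    refine Nat.card_eq_of_bijective F ⟨fun R R' e => Subtype.ext (Sylow.subtype_injective e),
      fun P => ?_⟩
    obtain ⟨R, hR⟩ := ((P.isPGroup').map (Subgroup.normalizer (A : Set G)).subtype).exists_le_sylow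
    have hA1 : IsPGroup q A := IsPGroup.of_card hA
    have hAP : A.subgroupOf (Subgroup.normalizer (A : Set G)) ≤ (P : Subgroup _) := by
      haveI : (A.subgroupOf (Subgroup.normalizer (A : Set G))).Normal :=
        (Subgroup.normal_subgroupOf_iff_le_normalizer Subgroup.le_normalizer).2 le_rfl
      have h1 : IsPGroup q (A.subgroupOf (Subgroup.normalizer (A : Set G))) :=
        hA1.of_equiv (Subgroup.subgroupOfEquivOfLe Subgroup.le_normalizer).symm
      have h2 := h1.to_sup_of_normal_left P.isPGroup'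
      exact le_sup_left.trans (P.is_maximal' h2 le_sup_right).le
    have hAR : A ≤ (R : Subgroup G) := fun a ha =>
      hR ⟨⟨a, Subgroup.le_normalizer ha⟩, hAP ha, rfl⟩
    refine ⟨⟨R, hAR⟩, Sylow.ext ?_⟩
    refine P.is_maximal' (Q := ((F ⟨R, hAR⟩) : Subgroup _)) (F ⟨R, hAR⟩).isPGroup' fun x hx => ?_
    show (x : G) ∈ (R : Subgroup G)
    exact hR ⟨x, hx, rfl⟩
  have hdvd : T.card ∣ Nat.card G := by
    rw [hTcard, Sylow.card_eq_index_normalizer (default : Sylow q (Subgroup.normalizer (A : Set G)))]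
    exact (Subgroup.index_dvd_card _).trans (Subgroup.card_subgroup_dvd_card _)
  rw [hi] at hz2
  rw [hi] at hsum
  have hi2 := (Nat.pow_le_pow_iff_right hq1).1 hz2
  interval_cases i
  · simp at hsum
    have := Nat.one_lt_pow (show 3 ≠ 0 by norm_num) hq1
    omega
  · have hq3 : q ^ 3 - 1 = (q ^ 2 + q + 1) * (q - 1) := by
      obtain ⟨r, rfl⟩ : ∃ r, q = r + 1 := ⟨q - 1, by omega⟩
      simp only [Nat.add_sub_cancel]
      exact Nat.sub_eq_of_eq_add (by ring)
    rw [pow_one, hq3] at hsum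
    exact hnd (Nat.eq_of_mul_eq_mul_right (show 0 < q - 1 by omega) hsum ▸ hdvd)
  · -- `q ^ 2 - 1` does not divide `q ^ 3 - 1`
    have hq0 : 2 ≤ q := hq1
    have h1 : (((T.card * (q ^ 2 - 1) : ℕ)) : ℤ) = ((q ^ 3 - 1 : ℕ) : ℤ) := by rw [hsum]
    rw [Nat.cast_mul, Nat.cast_sub (Nat.one_le_pow _ _ hq.out.pos),
      Nat.cast_sub (Nat.one_le_pow _ _ hq.out.pos)] at h1
    push_cast at h1
    have h2 : ((T.card : ℤ) - q) * ((q : ℤ) + 1) = 1 := by
      refine mul_right_cancel₀ (show (q : ℤ) - 1 ≠ 0 by omega) ?_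
      linear_combination h1
    have := Int.le_of_dvd one_pos (Dvd.intro_left _ h2)
    omega

theorem cent_of_mem {R : Sylow q G} {g : G} (hg1 : g ≠ 1) (hg : g ∈ (R : Subgroup G)) :
    (R : Subgroup G) = Subgroup.centralizer ({g} : Set G) :=
  cent_eq h hg1 hg fun x hx => sylow_comm h R x hx g hg

theorem ti {R R' : Sylow q G} {g : G} (hg1 : g ≠ 1) (hg : g ∈ (R : Subgroup G))
    (hg' : g ∈ (R' : Subgroup G)) : R = R' :=
  Sylow.ext ((cent_of_mem h hg1 hg).trans (cent_of_mem h hg1 hg').symm)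

theorem card_sylows : Nat.card (Sylow q G) = q ^ k + 1 := by
  classical
  have hk : 1 < q ^ k := Nat.one_lt_pow
    (by rcases h.k_cases with e | ⟨e, -⟩ <;> omega) hq.out.one_lt
  haveI := Fintype.ofFinite G
  let F : (Σ R : Sylow q G, {g : (R : Subgroup G) // g ≠ 1}) → {g : G // g ≠ 1 ∧ orderOf g ∣ q ^ k} :=
    fun x => ⟨x.2.1, fun e => x.2.2 (Subtype.ext e), order_dvd h x.1 x.2.1.2⟩
  have hb : Function.Bijective F := by
    refine ⟨fun ⟨R, g, hg⟩ ⟨R', g', hg'⟩ e => ?_, fun ⟨g, hg1, hg⟩ => ?_⟩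
    · have e' : (g : G) = g' := congrArg Subtype.val e
      obtain rfl := ti h (R := R) (R' := R') (fun e1 => hg (Subtype.ext e1)) g.2 (e' ▸ g'.2)
      obtain rfl : g = g' := Subtype.ext e'
      rfl
    · obtain ⟨R, hR⟩ := exists_cent_sylow h hg1 hg
      exact ⟨⟨R, ⟨g, hR ▸ Subgroup.mem_centralizer_singleton_iff.2 rfl⟩,
        fun e => hg1 (congrArg Subtype.val e)⟩, rfl⟩
  have hc := Nat.card_eq_of_bijective F hb
  rw [h.count, Nat.card_sigma] at hc
  have h1 : ∀ R : Sylow q G, Nat.card {g : (R : Subgroup G) // g ≠ 1} = q ^ k - 1 := fun R => by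
    rw [Nat.card_eq_fintype_card, Fintype.card_subtype_compl, Fintype.card_subtype_eq,
      ← Nat.card_eq_fintype_card, h.card_sylow]
  rw [Finset.sum_congr rfl (fun R _ => h1 R), Finset.sum_const, Finset.card_univ,
    ← Nat.card_eq_fintype_card, smul_eq_mul] at hc
  obtain ⟨m, hm⟩ : ∃ m, q ^ k = m + 1 := ⟨q ^ k - 1, by omega⟩
  rw [hm] at hc ⊢
  refine Nat.eq_of_mul_eq_mul_right (show 0 < m by omega) ?_
  rw [Nat.add_sub_cancel] at hc
  rw [hc]
  exact Nat.sub_eq_of_eq_add (by ring)

theorem eq_of_normalizes {R : Sylow q G} {Q : Sylow q G} {x : G} (hx : x ∈ (Q : Subgroup G))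
    (hxR : x • R = R) (hne : R ≠ Q) : x = 1 := by
  by_contra hx1
  apply hne
  refine ti h hx1 ?_ hx
  have hn := Sylow.smul_eq_iff_mem_normalizer.1 hxR
  obtain ⟨j, -, hj⟩ := (Nat.dvd_prime_pow hq.out).1 (order_dvd h Q hx)
  have hK : IsPGroup q (Subgroup.zpowers x) := IsPGroup.of_card (n := j) (by rw [Nat.card_zpowers, hj])
  have := R.is_maximal' (hK.to_sup_of_normal_right' R.isPGroup' (Subgroup.zpowers_le.2 hn))
    le_sup_right
  exact this ▸ Subgroup.mem_sup_left (Subgroup.mem_zpowers x)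

theorem regular (Q R : Sylow q G) (hne : R ≠ Q) :
    Function.Bijective fun x : (Q : Subgroup G) =>
      (⟨(x : G) • R, fun e => hne (by
        have hQ : (x : G) • Q = Q := Sylow.smul_eq_iff_mem_normalizer.2 (Subgroup.le_normalizer x.2)
        exact MulAction.injective (x : G) (e.trans hQ.symm))⟩ : {S : Sylow q G // S ≠ Q}) := by
  classical
  haveI := Fintype.ofFinite (Sylow q G)
  refine (Nat.bijective_iff_injective_and_card _).2 ⟨fun x y e => ?_, ?_⟩
  · have e' : (x : G) • R = (y : G) • R := congrArg Subtype.val e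
    have h1 := eq_of_normalizes h (x := (y : G)⁻¹ * x) (R := R) (Q := Q)
      (mul_mem (inv_mem y.2) x.2) (by rw [mul_smul, e', inv_smul_smul]) hne
    exact Subtype.ext (inv_mul_eq_one.1 h1).symm
  · rw [h.card_sylow Q, Nat.card_eq_fintype_card, Fintype.card_subtype_compl,
      Fintype.card_subtype_eq, ← Nat.card_eq_fintype_card, card_sylows h]
    omega

theorem two_trans : MulAction.IsMultiplyPretransitive G (Sylow q G) 2 := by
  refine MulAction.is_two_pretransitive_iff.2 fun {a b c d} hab hcd => ?_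
  obtain ⟨g, hg⟩ := MulAction.exists_smul_eq G a c
  have hne : g • b ≠ c := fun e => hab (MulAction.injective g (hg.trans e.symm))
  obtain ⟨x, hx⟩ := (regular h c (g • b) hne).2 ⟨d, hcd.symm⟩
  refine ⟨(x : G) * g, ?_, ?_⟩
  · rw [mul_smul, hg]
    exact Sylow.smul_eq_iff_mem_normalizer.2 (Subgroup.le_normalizer x.2)
  · rw [mul_smul]
    exact congrArg Subtype.val hx

theorem card_stab_pair {Q R : Sylow q G} (hne : R ≠ Q) :
    Nat.card G = (q ^ k + 1) * (q ^ k *
      Nat.card ↥(MulAction.stabilizer G Q ⊓ MulAction.stabilizer G R)) := by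
  have h1 : Nat.card G = (q ^ k + 1) * Nat.card (MulAction.stabilizer G Q) := by
    rw [← card_sylows h, ← MulAction.index_stabilizer_of_transitive G Q,
      Subgroup.index_mul_card]
  rw [h1]
  congr 1
  rw [← h.card_sylow Q, ← Nat.card_prod]
  symm
  refine Nat.card_eq_of_bijective
    (fun xy => (⟨(xy.1 : G) * xy.2, mul_mem (MulAction.mem_stabilizer_iff.2
      (Sylow.smul_eq_iff_mem_normalizer.2 (Subgroup.le_normalizer xy.1.2)))
      (Subgroup.mem_inf.1 xy.2.2).1⟩ : MulAction.stabilizer G Q))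
    ⟨fun ⟨x, u⟩ ⟨y, v⟩ e => ?_, fun s => ?_⟩
  · have e' : (x : G) * u = y * v := congrArg Subtype.val e
    have e2 : (y : G)⁻¹ * x = v * (u : G)⁻¹ := by
      rw [eq_mul_inv_iff_mul_eq, mul_assoc, e', inv_mul_cancel_left]
    have h2 := eq_of_normalizes h (x := (y : G)⁻¹ * x) (mul_mem (inv_mem y.2) x.2) (by
      rw [e2]
      exact (mul_mem (Subgroup.mem_inf.1 v.2).2 (inv_mem (Subgroup.mem_inf.1 u.2).2) :
        (v : G) * (u : G)⁻¹ ∈ MulAction.stabilizer G R)) hne
    have hxy : x = y := Subtype.ext (inv_mul_eq_one.1 h2).symm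
    subst hxy
    exact Prod.ext rfl (Subtype.ext (mul_left_cancel e'))
  · have hs : (s : G) • Q = Q := s.2
    obtain ⟨x, hx⟩ := (regular h Q R hne).2 ⟨(s : G) • R, fun e => hne
      (MulAction.injective (s : G) (e.trans hs.symm))⟩
    refine ⟨⟨x, ⟨(x : G)⁻¹ * s, Subgroup.mem_inf.2 ⟨?_, ?_⟩⟩⟩, Subtype.ext (mul_inv_cancel_left _ _)⟩
    · exact mul_mem (inv_mem (MulAction.mem_stabilizer_iff.2
        (Sylow.smul_eq_iff_mem_normalizer.2 (Subgroup.le_normalizer x.2)))) s.2
    · rw [MulAction.mem_stabilizer_iff, mul_smul]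
      have : (x : G) • R = (s : G) • R := congrArg Subtype.val hx
      rw [← this, inv_smul_smul]

theorem fix_three {g : G} {a b c : Sylow q G} (hab : a ≠ b) (hac : a ≠ c) (hbc : b ≠ c)
    (ha : g • a = a) (hb : g • b = b) (hc : g • c = c) : g = 1 := by
  obtain ⟨x, hx⟩ := (regular h a b hab.symm).2 ⟨c, hac.symm⟩
  have hx' : (x : G) • b = c := congrArg Subtype.val hx
  have hx1 : (x : G) ≠ 1 := fun e => hbc (by rw [← hx', e, one_smul])
  have hn := Sylow.smul_eq_iff_mem_normalizer.1 ha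
  set y := g⁻¹ * (x : G)⁻¹ * g * x with hy
  have hya : y ∈ (a : Subgroup G) := by
    refine mul_mem ?_ x.2
    have := (Subgroup.mem_normalizer_iff.1 (inv_mem hn) ((x : G)⁻¹)).1 (inv_mem x.2)
    simpa using this
  have hyb : y • b = b := by
    simp only [hy, mul_smul, hx', hc, inv_smul_eq_iff]
    rw [← hx', hb]
  have hcomm := eq_of_normalizes h hya hyb hab.symm
  have hgc : g ∈ Subgroup.centralizer ({(x : G)} : Set G) := by
    rw [Subgroup.mem_centralizer_singleton_iff]
    calc g * (x : G) = (x : G) * g * y := by rw [hy]; group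
      _ = _ := by rw [hcomm, mul_one]
  rw [← cent_of_mem h hx1 x.2] at hgc
  exact eq_of_normalizes h hgc hb hab.symm

/-- The group is a two dimensional projective group. -/
theorem iso_psl [IsSimpleGroup G] (hG : Nat.card G = (q ^ k + 1) * (q ^ k * ((q ^ k - 1) / 2)))
    (h4 : 4 ∣ q ^ k - 1) :
    ∃ (F : Type) (_ : Field F) (_ : Fintype F), 3 < Fintype.card F ∧
      Nonempty (G ≃* Matrix.ProjectiveSpecialLinearGroup (Fin 2) F) := by
  classical
  have hq1 : 1 < q ^ k := Nat.one_lt_pow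
    (by rcases h.k_cases with e | ⟨e, -⟩ <;> omega) hq.out.one_lt
  haveI : Nontrivial (Sylow q G) := Finite.one_lt_card_iff_nontrivial.1
    (by rw [card_sylows h]; omega)
  obtain ⟨a, b, hab⟩ := exists_pair_ne (Sylow q G)
  have hc := card_stab_pair h hab.symm
  rw [hG] at hc
  have hH : Nat.card ↥(MulAction.stabilizer G a ⊓ MulAction.stabilizer G b) = (q ^ k - 1) / 2 :=
    (Nat.eq_of_mul_eq_mul_left (by omega) (Nat.eq_of_mul_eq_mul_left (by omega) hc)).symm
  have h2 : 2 ≤ (q ^ k - 1) / 2 := by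
    obtain ⟨m, hm⟩ := h4
    omega
  obtain ⟨⟨g, hg⟩, hg1⟩ := haveI := Finite.one_lt_card_iff_nontrivial.1 (show 1 <
      Nat.card ↥(MulAction.stabilizer G a ⊓ MulAction.stabilizer G b) by omega)
    exists_ne (1 : ↥(MulAction.stabilizer G a ⊓ MulAction.stabilizer G b))
  have hg1' : g ≠ 1 := fun e => hg1 (Subtype.ext e)
  obtain ⟨hga, hgb⟩ := Subgroup.mem_inf.1 hg
  have hker : (MulAction.toPermHom G (Sylow q G)).ker = ⊥ := by
    refine (IsSimpleGroup.eq_bot_or_eq_top_of_normal _ inferInstance).resolve_right fun ht => ?_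
    obtain ⟨x, hx⟩ := MulAction.exists_smul_eq G a b
    have h1 : x ∈ (MulAction.toPermHom G (Sylow q G)).ker := ht ▸ Subgroup.mem_top x
    have h2 := Equiv.ext_iff.1 (MonoidHom.mem_ker.1 h1) a
    rw [MulAction.toPermHom_apply, MulAction.toPerm_apply, Equiv.Perm.one_apply] at h2
    exact hab (h2.symm.trans hx)
  have hZ : Cfsg.IsZassenhausGroup G (Sylow q G) := by
    refine ⟨⟨fun {g₁ g₂} e => ?_⟩, two_trans h,
      fun g a b c hab hbc hac => fix_three h hab hac hbc, ⟨g, hg1', a, b, hab, hga, hgb⟩,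
      fun N hN htr => ⟨a, fun hbot => ?_⟩⟩
    · exact (MonoidHom.ker_eq_bot_iff _).1 hker (Equiv.ext e)
    · rcases IsSimpleGroup.eq_bot_or_eq_top_of_normal N hN with rfl | rfl
      · obtain ⟨⟨n, hn⟩, hn'⟩ := htr.exists_smul_eq a b
        rw [Subgroup.mem_bot] at hn
        subst hn
        exact hab ((one_smul G a).symm.trans hn')
      · have hmem : (⟨g, Subgroup.mem_top g⟩ : (⊤ : Subgroup G)) ∈
            MulAction.stabilizer (⊤ : Subgroup G) a := hga
        rw [hbot, Subgroup.mem_bot] at hmem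
        exact hg1' (congrArg Subtype.val hmem)
  exact Cfsg.Agent.S0344.result hZ hab (by rw [hH, Nat.even_iff]; obtain ⟨m, hm⟩ := h4; omega)

end Cfsg.Agent.Lib.LargePrimeTwo42.Zass
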