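import Cfsg.Agent.Lib.LargePrimeTwo42.Tight
import Cfsg.Agent.Lib.LargePrimeTwo42.Zass
import Cfsg.Agent.Lib.Linear.Order
import Cfsg.Agent.Lib.Transfer.PResidual
import Cfsg.Agent.Lib.Spectrum.EPPOPrimes
import Cfsg.Agent.Lib.GraphIsolated64.Main
import Cfsg.Agent.S3214
import Cfsg.Agent.S0252
import Cfsg.Agent.S0253

/-!
# Identification of the survivors
-/

set_option autoImplicit false
set_option linter.style.haveILetI false
set_option linter.unusedSectionVars false

namespace Cfsg.Agent.Lib.LargePrimeTwo42.Ident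

open Numeric Chars Classes

universe u

/-- The conclusion of the theorem, `PSL₂(7)` and `PSL₂(4)` included. -/
def Target (G : Type u) [Group G] : Prop :=
  (∃ (F : Type) (_ : Field F) (_ : Fintype F),
      (Fintype.card F ∈ [5, 7, 8, 9, 16, 25, 27, 81, 2401]) ∧
      Nonempty (G ≃* Matrix.ProjectiveSpecialLinearGroup (Fin 2) F)) ∨
  (∃ (F : Type) (_ : Field F) (_ : Fintype F), Fintype.card F = 4 ∧
      Nonempty (G ≃* Matrix.ProjectiveSpecialLinearGroup (Fin 3) F))

/-- The orders of the survivors. -/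
def orders : List ℕ :=
  (nilList.map fun t => t.1 * t.2.2.1) ++ [7800, 265680, 6920642400]

theorem order_match : ∀ N ∈ orders, ∀ q ∈ List.range 2500,
    (q % 2 = 0 ∧ q * (q - 1) * (q + 1) = N ∨ q % 2 = 1 ∧ q * (q - 1) * (q + 1) = 2 * N) →
      q ∈ [4, 5, 7, 8, 9, 16, 25, 27, 81, 2401] ∨ q ∈ [15, 20, 21, 28, 35, 36, 63] := by
  decide +kernel

theorem orders_le : ∀ N ∈ orders, N ≤ 6920642400 ∧ 3 ∣ N ∧ N ≠ 2520 := by decide +kernel

theorem not_isPrimePow_of {n a b : ℕ} (ha : a.Prime) (hb : b.Prime) (hab : a ≠ b) (han : a ∣ n)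
    (hbn : b ∣ n) : ¬ IsPrimePow n := fun h => by
  obtain ⟨q, k, hq, -, rfl⟩ := (isPrimePow_nat_iff n).1 h
  exact hab (((Nat.prime_dvd_prime_iff_eq ha hq).1 (ha.dvd_of_dvd_pow han)).trans
    ((Nat.prime_dvd_prime_iff_eq hb hq).1 (hb.dvd_of_dvd_pow hbn)).symm)

theorem target_of_psl {G : Type u} [Group G] [Finite G] (hN : Nat.card G ∈ orders)
    {F : Type} [Field F] [Fintype F]
    (e : G ≃* Matrix.ProjectiveSpecialLinearGroup (Fin 2) F) : Target G := by
  have hc : Nat.card (Matrix.ProjectiveSpecialLinearGroup (Fin 2) F) = Nat.card G :=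
    (Nat.card_congr e.toEquiv).symm
  have h1 : Fintype.card F % 2 = 0 ∧
      Fintype.card F * (Fintype.card F - 1) * (Fintype.card F + 1) = Nat.card G ∨
      Fintype.card F % 2 = 1 ∧
      Fintype.card F * (Fintype.card F - 1) * (Fintype.card F + 1) = 2 * Nat.card G := by
    rcases Nat.even_or_odd (Fintype.card F) with h | h
    · exact Or.inl ⟨Nat.even_iff.1 h, by rw [← hc, Linear.card_PSL_two_of_even h]⟩
    · exact Or.inr ⟨Nat.odd_iff.1 h, by rw [← hc, Linear.two_mul_card_PSL_two_of_odd h]⟩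
  have hle : Fintype.card F < 2500 := by
    by_contra hb
    have h2 : 2500 * 2499 * 2501 ≤
        Fintype.card F * (Fintype.card F - 1) * (Fintype.card F + 1) :=
      Nat.mul_le_mul (Nat.mul_le_mul (by omega) (by omega)) (by omega)
    have := (orders_le _ hN).1
    rcases h1 with ⟨-, h⟩ | ⟨-, h⟩ <;> omega
  rcases order_match _ hN _ (List.mem_range.2 hle) h1 with h | h
  · rcases List.mem_cons.1 h with h4 | h
    · -- `PSL₂(4)` is `PSL₂(5)`
      haveI : Fact (Nat.Prime 5) := ⟨by norm_num⟩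
      obtain ⟨e4⟩ := Cfsg.Agent.S0252.result h4
      obtain ⟨e5⟩ := Cfsg.Agent.S0253.result (ZMod.card 5)
      exact Or.inl ⟨ZMod 5, inferInstance, inferInstance, by rw [ZMod.card]; simp,
        ⟨(e.trans e4).trans e5.symm⟩⟩
    · exact Or.inl ⟨F, inferInstance, inferInstance, h, ⟨e⟩⟩
  · exfalso
    have hpp := Fintype.isPrimePow_card_of_field (α := F)
    revert hpp
    simp only [List.mem_cons, List.not_mem_nil, or_false] at h
    rcases h with h | h | h | h | h | h | h <;> rw [h]
    · exact not_isPrimePow_of (a := 3) (b := 5) (by norm_num) (by norm_num) (by norm_num) (by norm_num) (by norm_num)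
    · exact not_isPrimePow_of (a := 2) (b := 5) (by norm_num) (by norm_num) (by norm_num) (by norm_num) (by norm_num)
    · exact not_isPrimePow_of (a := 3) (b := 7) (by norm_num) (by norm_num) (by norm_num) (by norm_num) (by norm_num)
    · exact not_isPrimePow_of (a := 2) (b := 7) (by norm_num) (by norm_num) (by norm_num) (by norm_num) (by norm_num)
    · exact not_isPrimePow_of (a := 5) (b := 7) (by norm_num) (by norm_num) (by norm_num) (by norm_num) (by norm_num)
    · exact not_isPrimePow_of (a := 2) (b := 3) (by norm_num) (by norm_num) (by norm_num) (by norm_num) (by norm_num)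
    · exact not_isPrimePow_of (a := 3) (b := 7) (by norm_num) (by norm_num) (by norm_num) (by norm_num) (by norm_num)

/-! ## Centralisers with a normal `2`-complement -/

theorem complement_of_four {H : Type u} [Group H] [Finite H] {z : H} (hz : orderOf z = 2)
    (hzc : z ∈ Subgroup.center H) (hv : (Nat.card H).factorization 2 = 2) :
    Cfsg.HasNormalPComplement 2 H := by
  classical
  haveI : Fact (Nat.Prime 2) := ⟨Nat.prime_two⟩
  set Z := Subgroup.zpowers z with hZdef
  have hzn : Z ≤ Subgroup.center H := Subgroup.zpowers_le.2 hzc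
  obtain ⟨T, hT⟩ := (IsPGroup.of_card (p := 2) (n := 1) (G := Z)
    (by rw [Nat.card_zpowers, hz, pow_one])).exists_le_sylow
  have hTc : Nat.card (T : Subgroup H) = 2 ^ 2 := by rw [Sylow.card_eq_multiplicity, hv]
  have hTcomm := IsPGroup.commutative_of_card_eq_prime_sq hTc
  have hidx : (Z.subgroupOf (T : Subgroup H)).index = 2 := by
    have h1 := Subgroup.card_mul_index (Z.subgroupOf (T : Subgroup H))
    rw [Nat.card_congr (Subgroup.subgroupOfEquivOfLe hT).toEquiv, Nat.card_zpowers, hz, hTc] at h1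
    omega
  have hfix : ∀ w ∈ Z, ∀ g : H, g * w = w * g := fun w hw g => Subgroup.mem_center_iff.1 (hzn hw) g
  have hsq : ∀ w ∈ Z, w * w = 1 := fun w hw => by
    obtain ⟨i, rfl⟩ := Subgroup.mem_zpowers_iff.1 hw
    rw [← zpow_add, ← two_mul, zpow_mul, show z ^ (2 : ℤ) = 1 by
      rw [show (2 : ℤ) = ((2 : ℕ) : ℤ) from rfl, zpow_natCast, ← hz, pow_orderOf_eq_one], one_zpow]
  have htwo : ∀ n ∈ Subgroup.normalizer ((T : Subgroup H) : Set H),
      n * n ∈ Subgroup.centralizer ((T : Subgroup H) : Set H) := fun n hn => by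
    refine Subgroup.mem_centralizer_iff.2 fun x hx => ?_
    by_cases hxZ : x ∈ Z
    · exact (hfix x hxZ _).symm
    have hnx : n * x * n⁻¹ ∈ (T : Subgroup H) := (Subgroup.mem_normalizer_iff.1 hn x).1 hx
    have hnxZ : n * x * n⁻¹ ∉ Z := fun h => hxZ (by
      have : x = n * x * n⁻¹ := by
        have e := hfix _ h n⁻¹
        calc x = n⁻¹ * (n * x * n⁻¹) * n := by group
          _ = n * x * n⁻¹ := by rw [e, inv_mul_cancel_right]
      rw [this]; exact h)
    have hmem := (Subgroup.mul_mem_iff_of_index_two hidx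
      (a := (⟨x, hx⟩ : (T : Subgroup H))⁻¹) (b := ⟨n * x * n⁻¹, hnx⟩)).2 (by
        simp only [Subgroup.mem_subgroupOf, Subgroup.coe_inv, inv_mem_iff]
        exact iff_of_false hxZ hnxZ)
    rw [Subgroup.mem_subgroupOf] at hmem
    simp only [Subgroup.coe_mul, Subgroup.coe_inv] at hmem
    set w := x⁻¹ * (n * x * n⁻¹) with hw
    have e1 : n * x * n⁻¹ = x * w := (mul_inv_cancel_left _ _).symm
    have e2 : n * w * n⁻¹ = w := by rw [hfix w hmem n, mul_inv_cancel_right]
    have e3 : n * n * x * (n * n)⁻¹ = x := by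
      calc n * n * x * (n * n)⁻¹ = n * (n * x * n⁻¹) * n⁻¹ := by group
        _ = n * (x * w) * n⁻¹ := by rw [e1]
        _ = n * x * n⁻¹ * (n * w * n⁻¹) := by group
        _ = x * w * w := by rw [e1, e2]
        _ = x := by rw [mul_assoc, hsq w hmem, mul_one]
    exact (mul_inv_eq_iff_eq_mul.1 e3).symm
  have hTC : (T : Subgroup H) ≤ Subgroup.centralizer ((T : Subgroup H) : Set H) := fun x hx =>
    Subgroup.mem_centralizer_iff.2 fun y hy => congrArg Subtype.val (hTcomm ⟨y, hy⟩ ⟨x, hx⟩)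
  have hle : Subgroup.normalizer ((T : Subgroup H) : Set H) ≤
      Subgroup.centralizer ((T : Subgroup H) : Set H) := fun n hn => by
    obtain ⟨i, m, hm, ho⟩ := Nat.exists_eq_pow_mul_and_not_dvd (orderOf_pos n).ne' 2 (by norm_num)
    obtain ⟨j, hj⟩ : ∃ j, m = 2 * j + 1 := ⟨m / 2, by omega⟩
    have hnm : n ^ m ∈ (T : Subgroup H) := by
      have hK : IsPGroup 2 (Subgroup.zpowers (n ^ m)) := IsPGroup.of_card (n := i) (by
        rw [Nat.card_zpowers, orderOf_pow, ho, Nat.gcd_mul_left_left,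
          Nat.mul_div_cancel _ (by omega)])
      have := T.is_maximal' (hK.to_sup_of_normal_right' T.isPGroup'
        (Subgroup.zpowers_le.2 (pow_mem hn m))) le_sup_right
      exact this ▸ Subgroup.mem_sup_left (Subgroup.mem_zpowers _)
    have : n = n ^ m * ((n * n) ^ j)⁻¹ := by
      rw [hj, ← pow_two, ← pow_mul, pow_succ', mul_inv_cancel_right]
    rw [this]
    exact mul_mem (hTC hnm) (inv_mem (pow_mem (htwo n hn) j))
  exact ⟨T, _, inferInstance, MonoidHom.ker_transferSylow_isComplement' T hle⟩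

variable {G : Type u} [Group G] [Finite G] [IsSimpleGroup G] {p : ℕ} [hp : Fact p.Prime]
  (S : Setup G p)

theorem nil_props : ∀ t ∈ nilList,
    (t.2.2.2 ∈ [4, 8, 16, 32, 64] ∨ t.2.2.2 ∈ [20, 28, 36, 700]) ∧ t.1 * t.2.2.1 ∈ orders := by
  decide +kernel

theorem factorization_four : ∀ C ∈ [20, 28, 36, 700], C % 8 = 4 := by decide

include S in
theorem target_of_nil (hN : Nat.card G ∈ orders)
    (h : ∀ t : G, orderOf t = 2 → cc t ∈ [4, 8, 16, 32, 64] ∨ cc t ∈ [20, 28, 36, 700]) :
    Target G := by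
  classical
  haveI : Fact (Nat.Prime 2) := ⟨Nat.prime_two⟩
  have hcompl : ∀ t : G, orderOf t = 2 →
      Cfsg.HasNormalPComplement 2 ↥(Subgroup.centralizer ({t} : Set G)) := fun t ht => by
    rcases h t ht with hc | hc
    · obtain ⟨j, hj⟩ : ∃ j, cc t = 2 ^ j := by
        simp only [List.mem_cons, List.not_mem_nil, or_false] at hc
        rcases hc with e | e | e | e | e
        exacts [⟨2, e⟩, ⟨3, e⟩, ⟨4, e⟩, ⟨5, e⟩, ⟨6, e⟩]
      exact Transfer.PResidual.hasNormalPComplement_of_isPGroup (IsPGroup.of_card hj)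
    · refine complement_of_four (z := ⟨t, Subgroup.mem_centralizer_singleton_iff.2 rfl⟩)
        (by rw [Subgroup.orderOf_mk]; exact ht)
        (Subgroup.mem_center_iff.2 fun y => Subtype.ext
          (Subgroup.mem_centralizer_singleton_iff.1 y.2)) ?_
      have h8 := factorization_four _ hc
      refine le_antisymm ?_ ((Nat.prime_two.pow_dvd_iff_le_factorization Nat.card_pos.ne').1
        (show 2 ^ 2 ∣ cc t by norm_num; omega))
      by_contra h3
      have := (Nat.prime_two.pow_dvd_iff_le_factorization Nat.card_pos.ne').2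
        (show 3 ≤ (cc t).factorization 2 by unfold cc; omega)
      have : 8 ∣ cc t := this
      omega
  rcases Cfsg.Agent.S3214.result S.hG hcompl with
    ⟨F, i1, i2, -, ⟨e⟩⟩ | hsz | ⟨⟨e⟩⟩ | ⟨F, i1, i2, hF, he⟩
  · exact target_of_psl hN e
  · obtain ⟨F, i1, i2, m, hm, hF, ⟨e⟩⟩ := hsz
    exfalso
    have h3 := (orders_le _ hN).2.1
    rw [Nat.card_congr e.toEquiv, Spectrum.EPPOPrimes.card_sz F hm hF, hF] at h3
    have h2 : 2 ^ (2 * m + 1) % 3 = 2 := by
      rw [pow_succ, pow_mul, Nat.mul_mod, Nat.pow_mod]; norm_num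
    have h1 : 1 ≤ 2 ^ (2 * m + 1) := Nat.one_le_two_pow
    generalize 2 ^ (2 * m + 1) = x at h1 h2 h3
    rcases Nat.prime_three.dvd_mul.1 h3 with h4 | h4
    · rcases Nat.prime_three.dvd_mul.1 h4 with h5 | h5
      · have := Nat.prime_three.dvd_of_dvd_pow h5; omega
      · have : (x ^ 2 + 1) % 3 = 2 := by rw [Nat.add_mod, Nat.pow_mod, h2]
        omega
    · omega
  · exfalso
    apply (orders_le _ hN).2.2
    rw [Nat.card_congr e.toEquiv, nat_card_alternatingGroup, Nat.card_eq_fintype_card, Fintype.card_fin]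
    rfl
  · exact Or.inr ⟨F, i1, i2, hF, he⟩

/-! ## The prime power case -/

include S in
theorem hyp_of_pow (hM : S.M = S.f * S.e) (hδ : S.D.δ = -1) {z : G} (hz : orderOf z = 2)
    {q k : ℕ} [hq : Fact q.Prime] (hqodd : q % 2 = 1) (hf : S.f = q ^ k)
    (hk : k = 2 ∨ k = 4 ∧ ¬ (q ^ 2 + q + 1 ∣ Nat.card G) ∧ S.f + 1 = 2 * p) :
    Zass.Hyp G q k := by
  classical
  haveI := Fintype.ofFinite G
  have hk0 : k ≠ 0 := by rcases hk with e | ⟨e, -⟩ <;> omega
  have hqf : q ∣ S.f := hf ▸ dvd_pow_self q hk0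
  have hqp : q ≠ p := fun e => not_dvd_f S (e ▸ hqf)
  have he : (S.e : ℤ) = (S.f : ℤ) - 1 := by rw [e_eq, hδ]; ring
  have hqe : ¬ q ∣ S.e := fun hd => by
    have h1 : (q : ℤ) ∣ (S.f : ℤ) - 1 := he ▸ Int.natCast_dvd_natCast.2 hd
    have h2 : (q : ℤ) ∣ 1 := by simpa using (Int.natCast_dvd_natCast.2 hqf).sub h1
    exact hq.out.ne_one (by simpa using Int.natAbs_dvd_natAbs.2 h2)
  have he0 : S.e ≠ 0 := by have := two_le_e S; omega
  have hsyl : ∀ R : Sylow q G, Nat.card (R : Subgroup G) = q ^ k := fun R => by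
    rw [Sylow.card_eq_multiplicity, card_G S, hM, hf,
      Nat.factorization_mul hp.out.ne_zero (mul_ne_zero (pow_ne_zero _ hq.out.ne_zero) he0),
      Nat.factorization_mul (pow_ne_zero _ hq.out.ne_zero) he0, Finsupp.add_apply, Finsupp.add_apply,
      Nat.factorization_eq_zero_of_not_dvd (n := p)
        (fun h => hqp ((Nat.prime_dvd_prime_iff_eq hq.out hp.out).1 h)),
      Nat.factorization_eq_zero_of_not_dvd hqe, hq.out.factorization_pow, Finsupp.single_eq_same,
      zero_add, add_zero]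
  -- `q`-elements have value zero
  have hreg : ∀ g : G, g ≠ 1 → orderOf g ∣ q ^ k → g ∈ Tight.zeros S ∧ ¬ p ∣ orderOf g := by
    intro g hg1 hg
    have hgp : ¬ p ∣ orderOf g := fun hd =>
      hqp ((Nat.prime_dvd_prime_iff_eq hp.out hq.out).1 (hp.out.dvd_of_dvd_pow (hd.trans hg))).symm
    obtain ⟨j, -, hj⟩ := (Nat.dvd_prime_pow hq.out).1 hg
    have hcong : ∀ j, ∀ g : G, g ^ q ^ j = 1 → (q : ℤ) ∣ (S.f : ℤ) - S.w g := by
      intro j
      induction j with
      | zero =>
        intro g hg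
        rw [pow_zero, pow_one] at hg
        rw [hg, w_one, sub_self]
        exact dvd_zero _
      | succ j ih =>
        intro g hg
        rw [pow_succ', pow_mul] at hg
        have := (ih _ hg).sub (w_congr_pow S hq.out g)
        simpa using this
    have h1 := hcong j g (by rw [← hj, pow_orderOf_eq_one])
    have h0 : S.w g = 0 := by
      rcases Tight.w_cases S hM hg1 hgp with h | h
      · exact h
      · rw [h, hδ, neg_neg, ← he] at h1
        exact absurd (Int.natCast_dvd_natCast.1 h1) hqe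
    exact ⟨by simp [Tight.zeros, reg, hg1, hgp, h0], hgp⟩
  have hdvd : ∀ g : G, g ≠ 1 → orderOf g ∣ q ^ k → cc g ∣ q ^ k := fun g hg1 hg => by
    obtain ⟨hz0, hgp⟩ := hreg g hg1 hg
    have h := Tight.cc_dvd S hM hz hg1 hgp
    rw [(Finset.mem_filter.1 hz0).2, sub_zero, hf] at h
    exact_mod_cast h
  refine ⟨hsyl, fun g hg1 hg => ?_, ?_, hk.imp id fun h => ⟨h.1, h.2.1⟩⟩
  · show cc g = q ^ k
    obtain ⟨i, hik, hi⟩ := (Nat.dvd_prime_pow hq.out).1 (hdvd g hg1 hg)
    rw [hi]
    congr 1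
    rcases hk with rfl | ⟨hk4, -, hfp⟩
    · -- Sylow subgroups of order `q ^ 2` are commutative
      obtain ⟨j, -, hj⟩ := (Nat.dvd_prime_pow hq.out).1 hg
      obtain ⟨R, hR⟩ := (IsPGroup.of_card (n := j) (G := Subgroup.zpowers g)
        (by rw [Nat.card_zpowers, hj])).exists_le_sylow
      have hle : (R : Subgroup G) ≤ Subgroup.centralizer ({g} : Set G) := fun x hx =>
        Subgroup.mem_centralizer_singleton_iff.2 (congrArg Subtype.val
          (IsPGroup.commutative_of_card_eq_prime_sq (hsyl R) ⟨x, hx⟩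
            ⟨g, hR (Subgroup.mem_zpowers g)⟩))
      have h := Subgroup.card_dvd_of_le hle
      rw [hsyl R] at h
      have := (Nat.pow_dvd_pow_iff_le_right hq.out.one_lt).1 (h.trans (dvd_of_eq hi))
      omega
    · obtain ⟨hz0, hgp⟩ := hreg g hg1 hg
      have hle := Finset.card_le_card (Tight.class_subset S hz0)
      rw [Tight.class_card S hg1 hgp, hM, hi, hf,
        show q ^ k = q ^ i * q ^ (k - i) by rw [← pow_add, Nat.add_sub_cancel' hik], mul_assoc,
        Nat.mul_div_cancel_left _ (pow_pos hq.out.pos i)] at hle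
      by_contra hne
      have h3 : 3 ≤ q ^ (k - i) := le_trans (by have := hq.out.two_le; omega)
        (Nat.le_self_pow (show k - i ≠ 0 by omega) q)
      have hz2 := Tight.card_zeros S hM
      have h4 : ((p * (3 * S.e) : ℕ) : ℤ) ≤ ((Tight.zeros S).card : ℤ) := by
        exact_mod_cast le_trans (Nat.mul_le_mul_left p (Nat.mul_le_mul_right _ h3)) hle
      rw [hz2] at h4
      push_cast at h4
      rw [he] at h4
      have hfp' : (S.f : ℤ) + 1 = 2 * p := by exact_mod_cast hfp
      have := S.two_le_f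
      have := S.p5
      nlinarith
  · have heq : Nat.card {g : G // g ≠ 1 ∧ orderOf g ∣ q ^ k} = (Tight.zeros S).card := by
      rw [Nat.card_eq_fintype_card, Fintype.card_subtype]
      congr 1
      ext g
      simp only [Finset.mem_filter, Finset.mem_univ, true_and]
      refine ⟨fun hg => (hreg g hg.1 hg.2).1, fun hg => ?_⟩
      obtain ⟨hgr, hg0⟩ := Finset.mem_filter.1 hg
      obtain ⟨-, hg1, hgp⟩ := Finset.mem_filter.1 hgr
      have h := Tight.cc_dvd S hM hz hg1 hgp
      rw [hg0, sub_zero, hf] at h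
      exact ⟨hg1, (Subgroup.orderOf_dvd_natCard _ (Subgroup.mem_centralizer_singleton_iff.2 rfl :
        g ∈ Subgroup.centralizer ({g} : Set G))).trans (Int.natCast_dvd_natCast.1 h)⟩
    rw [heq, ← hf]
    have h1 : 1 ≤ S.f ^ 2 := Nat.one_le_pow _ _ (by have := S.two_le_f; omega)
    rw [← Int.natCast_inj, Nat.cast_sub h1, Tight.card_zeros S hM]
    push_cast
    ring

include S in
theorem target_of_pow (hM : S.M = S.f * S.e) (hδ : S.D.δ = -1) {z : G} (hz : orderOf z = 2)
    {q k : ℕ} [hq : Fact q.Prime] (hqodd : q % 2 = 1) (hf : S.f = q ^ k)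
    (hk : k = 2 ∨ k = 4 ∧ ¬ (q ^ 2 + q + 1 ∣ Nat.card G) ∧ S.f + 1 = 2 * p)
    (hfp : S.f + 1 = 2 * p) (h4 : 4 ∣ q ^ k - 1) (hN : Nat.card G ∈ orders) : Target G := by
  have H := hyp_of_pow S hM hδ hz hqodd hf hk
  have he : S.e = S.f - 1 := by have := e_eq S; rw [hδ] at this; omega
  obtain ⟨m, hm⟩ := h4
  have hG : Nat.card G = (q ^ k + 1) * (q ^ k * ((q ^ k - 1) / 2)) := by
    rw [card_G S, hM, he, hf, hm, show 4 * m / 2 = 2 * m by omega]
    rw [hf] at hfp
    rw [hfp]
    ring
  obtain ⟨F, i1, i2, -, ⟨e⟩⟩ := Zass.iso_psl H hG ⟨m, hm⟩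
  exact target_of_psl hN e

theorem tight_props : ∀ t ∈ tightList,
    t ∈ [(13, 25, 600, 24), (5, 49, 2352, 48), (41, 81, 6480, 80), (113, 225, 50400, 224),
      (1201, 2401, 5762400, 2400)] ∨
    t.2.1 = t.1 + 1 ∧ t.2.2.2 = t.2.1 ∧ t.2.2.1 = t.2.1 * (t.2.1 + 1) ∧
      (3 ∣ t.2.1 ∨ 5 ∣ t.2.1 ∨ 7 ∣ t.2.1) := by
  decide +kernel

theorem tight_M : ∀ t ∈ tightList, ∀ c ∈ cases, c.1 = t.1 → c.2.1 = t.2.1 →
    t.2.2.1 = t.2.1 * eOf t.2.1 c.2.2 ∧
    (t.2.1 = t.1 + 1 → c.2.2 = 1) ∧ (t.2.1 ∈ [25, 49, 81, 225, 2401] → c.2.2 = -1) := by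
  decide +kernel

include S in
theorem target (hsm : Smooth.Sm S.M) {z : G} (hz : orderOf z = 2) : Target G := by
  classical
  haveI := Fintype.ofFinite G
  have hcases := Survivors.mem_cases S hsm
  have hz' := Survivors.survivor S hsm hz
  rcases List.mem_append.1 hz' with h | h
  · obtain ⟨-, hN⟩ := nil_props _ h
    refine target_of_nil S ((card_G S).symm ▸ hN) fun t ht => ?_
    have ht' := Survivors.survivor S hsm ht
    have hcu : cc t = cc z := by
      have h1 := Tight.class_card (g := t) S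
        (fun e => by rw [e, orderOf_one] at ht; norm_num at ht) (regular_of_two S ht)
      have h2 := SmallGroups.Counting.card_isConj_mul t
      have h3 := SmallGroups.Counting.card_isConj_mul z
      rw [Nat.card_congr (Equiv.subtypeEquivRight fun y => (show IsConj t y ↔ IsConj z y from
        ⟨fun h => (isConj_involution S hz ht).trans h,
          fun h => (isConj_involution S ht hz).trans h⟩))] at h2
      haveI : Nonempty {y : G // IsConj z y} := ⟨⟨z, IsConj.refl z⟩⟩
      exact Nat.eq_of_mul_eq_mul_left Nat.card_pos (h2.trans h3.symm)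
    rw [hcu]
    exact (nil_props _ h).1
  · obtain ⟨hM', hpos, hneg⟩ := tight_M _ h _ hcases rfl rfl
    have hM : S.M = S.f * S.e := hM'
    rcases tight_props _ h with hl | ⟨hfp, hC, -, hq⟩
    · simp only [List.mem_cons, List.not_mem_nil, or_false, Prod.mk.injEq] at hl
      rcases hl with ⟨hp', hf, hMv, -⟩ | ⟨hp', hf, hMv, -⟩ | ⟨hp', hf, hMv, -⟩ |
        ⟨hp', hf, hMv, -⟩ | ⟨hp', hf, hMv, -⟩
      all_goals have hδ : S.D.δ = -1 := hneg (by show S.f ∈ _; simp [hf])
      · haveI : Fact (Nat.Prime 5) := ⟨by norm_num⟩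
        exact target_of_pow S hM hδ hz (q := 5) (k := 2) (by norm_num) (by rw [hf]; norm_num)
          (Or.inl rfl) (by omega) (by norm_num)
          (by rw [card_G S, hMv, show p * 600 = 7800 by omega]; decide +kernel)
      · haveI : Fact (Nat.Prime 7) := ⟨by norm_num⟩
        have H := hyp_of_pow S hM hδ hz (q := 7) (k := 2) (by norm_num) (by rw [hf]; norm_num)
          (Or.inl rfl)
        exfalso
        have h1 : Nat.card (Sylow 7 G) ∣ Nat.card G := by
          rw [Sylow.card_eq_index_normalizer (default : Sylow 7 G)]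
          exact Subgroup.index_dvd_card _
        rw [Zass.card_sylows H, card_G S, hMv, show p * 2352 = 11760 by omega] at h1
        norm_num at h1
      · haveI : Fact (Nat.Prime 3) := ⟨by norm_num⟩
        exact target_of_pow S hM hδ hz (q := 3) (k := 4) (by norm_num) (by rw [hf]; norm_num)
          (Or.inr ⟨rfl, by rw [card_G S, hMv, show p * 6480 = 265680 by omega]; norm_num, by omega⟩)
          (by omega) (by norm_num)
          (by rw [card_G S, hMv, show p * 6480 = 265680 by omega]; decide +kernel)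
      · exact (Tight.false_of_225 S hM hf hδ hp' hz).elim
      · haveI : Fact (Nat.Prime 7) := ⟨by norm_num⟩
        exact target_of_pow S hM hδ hz (q := 7) (k := 4) (by norm_num) (by rw [hf]; norm_num)
          (Or.inr ⟨rfl,
            by rw [card_G S, hMv, show p * 5762400 = 6920642400 by omega]; norm_num, by omega⟩)
          (by omega) (by norm_num)
          (by rw [card_G S, hMv, show p * 5762400 = 6920642400 by omega]; decide +kernel)
    · have hδ : S.D.δ = 1 := hpos hfp
      exfalso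
      rcases hq with h3 | h5 | h7
      · exact Tight.false_of_pos S hM hδ hfp hz hC Nat.prime_three (by norm_num) h3
      · exact Tight.false_of_pos S hM hδ hfp hz hC (q := 5) (by norm_num) (by norm_num) h5
      · exact Tight.false_of_pos S hM hδ hfp hz hC (q := 7) (by norm_num) (by norm_num) h7

end Cfsg.Agent.Lib.LargePrimeTwo42.Ident
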