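import Mathlib

/-!
# Consecutive `7`-smooth numbers

Størmer's method: `4 n (n + 1) = D y ^ 2` makes `(2 n + 1, y)` a solution of a Pell equation with
`D ∣ 210`, and only the first few solutions have a `7`-smooth `y`.
-/

set_option autoImplicit false

namespace Cfsg.Agent.Lib.LargePrimeTwo42.Smooth

open Pell

/-- Positive, with no prime divisor above seven. -/
def Sm (n : ℕ) : Prop := n ≠ 0 ∧ ∀ r : ℕ, r.Prime → r ∣ n → r ∈ [2, 3, 5, 7]

theorem Sm.of_dvd {a b : ℕ} (hb : Sm b) (h : a ∣ b) : Sm a :=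
  ⟨fun h0 => hb.1 (by subst h0; exact zero_dvd_iff.mp h), fun r hr hd => hb.2 r hr (hd.trans h)⟩

theorem Sm.mul {a b : ℕ} (ha : Sm a) (hb : Sm b) : Sm (a * b) :=
  ⟨mul_ne_zero ha.1 hb.1, fun r hr hd => (hr.dvd_mul.mp hd).elim (ha.2 r hr) (hb.2 r hr)⟩

theorem Sm.dvd_pow {n K : ℕ} (hn : Sm n) (hK : n < 2 ^ K) : n ∣ 210 ^ K := by
  rw [← Nat.factorization_le_iff_dvd hn.1 (by positivity), Finsupp.le_iff]
  intro r hr
  have hrp : r.Prime := Nat.prime_of_mem_primeFactors hr
  have hrd : r ∣ n := Nat.dvd_of_mem_primeFactors hr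
  rw [Nat.factorization_pow, Finsupp.smul_apply, smul_eq_mul]
  have h1 : n.factorization r ≤ K := by
    by_contra h
    have h2 : r ^ n.factorization r ≤ n := Nat.le_of_dvd (Nat.pos_of_ne_zero hn.1) (Nat.ordProj_dvd n r)
    have h3 : 2 ^ K ≤ r ^ n.factorization r :=
      (Nat.pow_le_pow_left hrp.two_le K).trans (Nat.pow_le_pow_right hrp.pos (by omega))
    omega
  refine h1.trans (Nat.le_mul_of_pos_right K (hrp.factorization_pos_of_dvd (by norm_num) ?_))
  have := hn.2 r hrp hrd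
  simp only [List.mem_cons, List.not_mem_nil, or_false] at this
  rcases this with rfl | rfl | rfl | rfl <;> norm_num

/-! ## The Lucas sequence of a Pell equation -/

/-- One step of the recursion `U (n + 2) = t * U (n + 1) - U n`. -/
def stepQ (t : ℤ) (v : ℤ × ℤ) : ℤ × ℤ := (v.2, t * v.2 - v.1)

/-- `(U n, U (n + 1))`. -/
def luc (t : ℤ) : ℕ → ℤ × ℤ
  | 0 => (0, 1)
  | n + 1 => stepQ t (luc t n)

/-- The sequence itself. -/
def U (t : ℤ) (n : ℕ) : ℤ := (luc t n).1

theorem U_succ_succ (t : ℤ) (n : ℕ) : U t (n + 2) = t * U t (n + 1) - U t n := rfl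

theorem y_pow {D : ℤ} (a : Solution₁ D) : ∀ n : ℕ, (a ^ n).y = a.y * U (2 * a.x) n
  | 0 => by simp [U, luc]
  | 1 => by simp [U, luc, stepQ]
  | n + 2 => by
    have h0 := y_pow a n
    have h1 := y_pow a (n + 1)
    rw [U_succ_succ, pow_succ', Solution₁.y_mul, h1]
    rw [pow_succ' a n, Solution₁.y_mul] at h1
    have hx : (a ^ (n + 1)).x = a.x * (a ^ n).x + D * (a.y * (a ^ n).y) := by
      rw [pow_succ', Solution₁.x_mul]
    rw [hx, h0]
    have h := a.prop
    rw [h0] at h1
    linear_combination a.x * h1 - (a.y * U (2 * a.x) n) * h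

theorem y_dvd_pow {D : ℤ} (b : Solution₁ D) : ∀ m : ℕ, b.y ∣ (b ^ m).y
  | 0 => by simp
  | m + 1 => by
    rw [pow_succ', Solution₁.y_mul]
    exact dvd_add ((y_dvd_pow b m).mul_left _) (Dvd.intro _ rfl)

theorem U_dvd {D : ℤ} (a : Solution₁ D) (hy : a.y ≠ 0) {r k : ℕ} (h : r ∣ k) :
    U (2 * a.x) r ∣ U (2 * a.x) k := by
  obtain ⟨m, rfl⟩ := h
  have := y_dvd_pow (a ^ r) m
  rw [← pow_mul, y_pow, y_pow] at this
  exact (mul_dvd_mul_iff_left hy).mp this

/-- The recursion modulo `q`. -/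
def lucM (t : ℤ) (q : ℕ) : ℕ → ℤ × ℤ
  | 0 => (0 % (q : ℤ), 1 % (q : ℤ))
  | n + 1 => ((lucM t q n).2, (t * (lucM t q n).2 - (lucM t q n).1) % (q : ℤ))

theorem lucM_eq (t : ℤ) (q : ℕ) : ∀ n, lucM t q n = ((luc t n).1 % q, (luc t n).2 % q)
  | 0 => rfl
  | n + 1 => by
    rw [lucM, lucM_eq t q n]
    show _ = ((luc t n).2 % (q : ℤ), (t * (luc t n).2 - (luc t n).1) % (q : ℤ))
    congr 1
    simp [Int.sub_emod, Int.mul_emod]

/-- No index coprime to the period `T` gives a multiple of `q`. -/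
def periodOK (t : ℤ) (q T : ℕ) : Bool :=
  lucM t q T == lucM t q 0 &&
    (List.range T).all fun i => (lucM t q i).1 != 0 || Nat.gcd i T != 1

theorem not_dvd_of_periodOK {t : ℤ} {q T r : ℕ} (hT : 0 < T) (h : periodOK t q T = true)
    (hr : Nat.gcd r T = 1) : ¬ (q : ℤ) ∣ U t r := by
  simp only [periodOK, Bool.and_eq_true, beq_iff_eq, List.all_eq_true, List.mem_range,
    Bool.or_eq_true, bne_iff_ne] at h
  obtain ⟨hper, hall⟩ := h
  have hadd : ∀ n, lucM t q (T + n) = lucM t q n := by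
    intro n
    induction n with
    | zero => exact hper
    | succ n ih => rw [← add_assoc, lucM, ih, lucM]
  have hmul : ∀ j n, lucM t q (T * j + n) = lucM t q n := by
    intro j n
    induction j with
    | zero => simp
    | succ j ih => rw [mul_add, mul_one, add_assoc, add_comm T n, ← add_assoc,
        add_comm (T * j + n) T, hadd, ih]
  have hmod : lucM t q r = lucM t q (r % T) := by
    conv_lhs => rw [← Nat.div_add_mod r T]
    exact hmul _ _
  intro hd
  rcases hall (r % T) (Nat.mod_lt r hT) with h | h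
  · apply h
    rw [← hmod, lucM_eq]
    exact Int.emod_eq_zero_of_dvd hd
  · exact h (by rw [← Nat.gcd_rec, Nat.gcd_comm]; exact hr)

/-! ## The table -/

/-- `D`, the fundamental solution, and the periods modulo `2, 3, 5, 7`. -/
def table : List (ℕ × ℕ × ℕ × List ℕ) :=
  [(2, 3, 2, [2, 4, 6, 3]), (3, 2, 1, [2, 6, 3, 8]), (5, 9, 4, [2, 4, 10, 8]),
   (6, 5, 2, [2, 6, 4, 8]), (7, 8, 3, [2, 6, 6, 7]), (10, 19, 6, [2, 3, 10, 8]),
   (14, 15, 4, [2, 4, 4, 7]), (15, 4, 1, [2, 3, 10, 6]), (21, 55, 12, [2, 3, 4, 14]),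
   (30, 11, 2, [2, 6, 5, 6]), (35, 6, 1, [2, 4, 5, 14]), (42, 13, 2, [2, 3, 6, 14]),
   (70, 251, 30, [2, 6, 5, 14]), (105, 41, 4, [2, 6, 5, 14]), (210, 29, 2, [2, 6, 10, 7])]

/-- What is checked for a line of the table. -/
def lineOK : ℕ × ℕ × ℕ × List ℕ → Bool
  | (D, x, y, Ts) =>
    decide (1 < x) && decide (0 < y) && decide (x * x = D * y * y + 1) &&
    ((List.range x).all fun a => decide (a ≤ 1) ||
      (List.range a).all fun b => decide (a * a ≠ D * b * b + 1)) &&
    ((List.zip [2, 3, 5, 7] Ts).all fun qT =>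
      decide (0 < qT.2 ∧ qT.2 ∣ 840) && periodOK (2 * (x : ℤ)) qT.1 qT.2) &&
    decide (Ts.length = 4) &&
    [5, 6, 7, 8, 9].all fun k =>
      decide ((U (2 * (x : ℤ)) k).natAbs < 2 ^ 90) && decide (¬ (U (2 * (x : ℤ)) k).natAbs ∣ 210 ^ 90)

theorem table_ok : table.all lineOK = true := by decide +kernel

theorem table_D : ∀ D ∈ Nat.divisors 210, D = 1 ∨ D ∈ table.map (fun l => l.1) := by
  decide +kernel

/-- The powers of a solution, coordinate by coordinate. -/
def pw (D x y : ℤ) : ℕ → ℤ × ℤ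
  | 0 => (1, 0)
  | k + 1 => (x * (pw D x y k).1 + D * (y * (pw D x y k).2), x * (pw D x y k).2 + y * (pw D x y k).1)

theorem pow_eq_pw {D : ℤ} (a : Solution₁ D) :
    ∀ k, ((a ^ k).x, (a ^ k).y) = pw D a.x a.y k
  | 0 => by simp [pw]
  | k + 1 => by
    rw [pw, ← pow_eq_pw a k, pow_succ', Solution₁.x_mul, Solution₁.y_mul]

/-- The smaller members of the pairs of consecutive `7`-smooth numbers. -/
def smallList : List ℕ :=
  [1, 2, 3, 4, 5, 6, 7, 8, 9, 14, 15, 20, 24, 27, 35, 48, 49, 63, 80, 125, 224, 2400, 4374]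

/-- The first powers give nothing outside the list. -/
def firstOK : ℕ × ℕ × ℕ × List ℕ → Bool
  | (D, x, y, _) => (List.range 5).all fun k =>
    let v := pw (D : ℤ) (x : ℤ) (y : ℤ) k
    decide (v.1 % 2 = 0) || decide (k = 0) || decide ((v.1 / 2).toNat ∈ smallList) ||
      (decide (v.2.natAbs < 2 ^ 90) && decide (¬ v.2.natAbs ∣ 210 ^ 90))

theorem first_ok : table.all firstOK = true := by decide +kernel

theorem U_mono {t : ℤ} (ht : 2 ≤ t) : ∀ n, 0 ≤ U t n ∧ U t n < U t (n + 1)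
  | 0 => by simp [U, luc, stepQ]
  | n + 1 => by
    obtain ⟨h0, h1⟩ := U_mono ht n
    refine ⟨by omega, ?_⟩
    rw [show n + 1 + 1 = n + 2 from rfl, U_succ_succ]
    nlinarith

/-- Consecutive `7`-smooth numbers. -/
theorem mem_of_consecutive {n : ℕ} (h1 : Sm n) (h2 : Sm (n + 1)) : n ∈ smallList := by
  have h4 : Sm (4 * (n * (n + 1))) :=
    Sm.mul ⟨by norm_num, fun r hr hd => by
      have h22 : r ∣ 2 ^ 2 := by norm_num; exact hd
      have := (Nat.prime_dvd_prime_iff_eq hr Nat.prime_two).1 (hr.dvd_of_dvd_pow h22)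
      subst this; simp⟩ (h1.mul h2)
  obtain ⟨D, y, hy, hsq⟩ := Nat.sq_mul_squarefree (4 * (n * (n + 1)))
  have hD : D ∈ Nat.divisors 210 := by
    refine Nat.mem_divisors.2 ⟨?_, by norm_num⟩
    rw [← Nat.prod_primeFactors_of_squarefree hsq]
    refine (Finset.prod_dvd_prod_of_subset _ ({2, 3, 5, 7} : Finset ℕ) (fun x => x) ?_).trans
      (by decide)
    intro r hr
    have := h4.2 r (Nat.prime_of_mem_primeFactors hr)
      ((Nat.dvd_of_mem_primeFactors hr).trans ⟨y ^ 2, by rw [← hy, mul_comm]⟩)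
    simpa using this
  have hysm : Sm y := h4.of_dvd ⟨y * D, by rw [← hy]; ring⟩
  rcases table_D D hD with rfl | hmem
  · exfalso
    have hn := Nat.pos_of_ne_zero h1.1
    have h3 : (2 * n) ^ 2 < y ^ 2 := by nlinarith
    have h5 : y ^ 2 < (2 * n + 1) ^ 2 := by nlinarith
    have := lt_of_pow_lt_pow_left₀ 2 (Nat.zero_le _) h3
    have := lt_of_pow_lt_pow_left₀ 2 (Nat.zero_le _) h5
    omega
  obtain ⟨⟨D', x, y₁, Ts⟩, hl, rfl⟩ := List.mem_map.1 hmem
  simp only at hy
  have hline := List.all_eq_true.1 table_ok _ hl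
  simp only [lineOK, Bool.and_eq_true, decide_eq_true_eq, List.all_eq_true, List.mem_range,
    Bool.or_eq_true] at hline
  obtain ⟨⟨⟨⟨⟨⟨hx1, hy1⟩, heq⟩, hmin⟩, hTs⟩, hlen⟩, hbig⟩ := hline
  let a : Solution₁ (D' : ℤ) := Solution₁.mk x y₁ (by
    have : (x : ℤ) * x = D' * y₁ * y₁ + 1 := by exact_mod_cast heq
    linarith)
  have hD2 : 2 ≤ D' := by
    by_contra h
    have : D' = 0 ∨ D' = 1 := by omega
    rcases this with h | h <;> subst h <;> simp at hD <;> revert hl <;> simp [table]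
  have hfund : IsFundamental a := by
    refine ⟨by simpa [a] using hx1, by simpa [a] using hy1, fun {b} hb => ?_⟩
    by_contra hlt
    simp only [a, Solution₁.x_mk, not_le] at hlt
    have hp := b.prop
    rcases hmin b.x.natAbs (by omega) with h | h
    · omega
    · refine h b.y.natAbs ?_ ?_
      · zify
        rw [abs_of_pos (show (0 : ℤ) < b.x by omega)]
        nlinarith [abs_nonneg b.y, sq_abs b.y]
      · zify
        rw [mul_assoc (D' : ℤ), abs_mul_abs_self, abs_mul_abs_self]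
        linarith
  let c : Solution₁ (D' : ℤ) := Solution₁.mk ((2 * n + 1 : ℕ) : ℤ) y (by
    have : (y : ℤ) ^ 2 * D' = 4 * (n * (n + 1)) := by exact_mod_cast hy
    push_cast
    linear_combination -this)
  obtain ⟨k, hk⟩ := hfund.eq_pow_of_nonneg (a := c) (by simp [c]) (by simp [c])
  have hyk : (y : ℤ) = (a ^ k).y := by rw [← hk]; simp [c]
  have hay : a.y ≠ 0 := by simp [a]; omega
  have hk0 : k ≠ 0 := by
    rintro rfl
    simp at hyk
    exact hysm.1 hyk
  have hUsm : ∀ r, r ∣ k → Sm (U (2 * a.x) r).natAbs := fun r hr => by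
    refine hysm.of_dvd ?_
    have : U (2 * a.x) r ∣ (y : ℤ) := by
      rw [hyk, y_pow]; exact (U_dvd a hay hr).mul_left _
    exact_mod_cast Int.natAbs_dvd_natAbs.2 this
  have hprimes : ∀ r : ℕ, r.Prime → r ∣ k → r ∈ [2, 3, 5, 7] := by
    intro r hr hrk
    by_contra hnot
    have hcop : ∀ T, T ∣ 840 → Nat.gcd r T = 1 := fun T hT => by
      refine hr.coprime_iff_not_dvd.2 fun hd => hnot ?_
      have : r ∈ Nat.primeFactors 840 := Nat.mem_primeFactors.2 ⟨hr, hd.trans hT, by norm_num⟩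
      have h840 : Nat.primeFactors 840 = {2, 3, 5, 7} := by decide +kernel
      simpa [h840] using this
    have hsm := hUsm r hrk
    obtain ⟨h0, h1'⟩ := U_mono (t := 2 * a.x) (by simp [a]; omega) (r - 1)
    rw [Nat.sub_add_cancel hr.one_le] at h1'
    have h2' : 1 ≤ U (2 * a.x) (r - 1) := by
      have := (U_mono (t := 2 * a.x) (by simp [a]; omega) (r - 2))
      have hr2 := hr.two_le
      rw [show r - 2 + 1 = r - 1 by omega] at this
      omega
    have hne1 : (U (2 * a.x) r).natAbs ≠ 1 := by omega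
    obtain ⟨s, hs, hsd⟩ := Nat.exists_prime_and_dvd hne1
    obtain ⟨i, hi, rfl⟩ := List.mem_iff_getElem.1 (hsm.2 s hs hsd)
    have hi4 : i < Ts.length := by rw [hlen]; exact hi
    have hmemz : ([2, 3, 5, 7][i], Ts[i]) ∈ List.zip [2, 3, 5, 7] Ts :=
      List.mem_iff_getElem.2 ⟨i, by simp [hlen] at hi ⊢; omega, List.getElem_zip⟩
    obtain ⟨⟨hT0, hT⟩, hper⟩ := hTs _ hmemz
    exact not_dvd_of_periodOK hT0 hper (hcop _ hT) (by
      rw [show (2 * (x : ℤ)) = 2 * a.x by simp [a]]
      exact Int.natCast_dvd.2 hsd)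
  have hk5 : k < 5 := by
    by_contra h5
    obtain ⟨m, hm, hmk⟩ : ∃ m ∈ [5, 6, 7, 8, 9], m ∣ k := by
      by_contra hno
      push Not at hno
      have h5' := hno 5 (by simp); have h6 := hno 6 (by simp); have h7 := hno 7 (by simp)
      have h8 := hno 8 (by simp); have h9 := hno 9 (by simp)
      have hd : k ∣ 12 := by
        refine (Nat.factorization_le_iff_dvd hk0 (by norm_num)).1 ((Finsupp.le_iff _ _).2 fun r hr => ?_)
        have hrp := Nat.prime_of_mem_primeFactors hr
        have hrk := Nat.dvd_of_mem_primeFactors hr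
        have := hprimes r hrp hrk
        simp only [List.mem_cons, List.not_mem_nil, or_false] at this
        refine (hrp.pow_dvd_iff_le_factorization (by norm_num)).1 ?_
        have hp := Nat.ordProj_dvd k r
        rcases this with rfl | rfl | rfl | rfl
        · by_contra hc
          have : 3 ≤ k.factorization 2 := by
            by_contra hl3
            exact hc ((pow_dvd_pow 2 (show k.factorization 2 ≤ 2 by omega)).trans (by norm_num))
          exact h8 ((show (8 : ℕ) = 2 ^ 3 by norm_num) ▸ (pow_dvd_pow 2 this).trans hp)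
        · by_contra hc
          have : 2 ≤ k.factorization 3 := by
            by_contra hl3
            exact hc ((pow_dvd_pow 3 (show k.factorization 3 ≤ 1 by omega)).trans (by norm_num))
          exact h9 ((show (9 : ℕ) = 3 ^ 2 by norm_num) ▸ (pow_dvd_pow 3 this).trans hp)
        · exact absurd hrk h5'
        · exact absurd hrk h7
      have hd' : k ∈ Nat.divisors 12 := Nat.mem_divisors.2 ⟨hd, by norm_num⟩
      rw [show Nat.divisors 12 = {1, 2, 3, 4, 6, 12} by decide +kernel] at hd'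
      simp only [Finset.mem_insert, Finset.mem_singleton] at hd'
      rcases hd' with rfl | rfl | rfl | rfl | rfl | rfl <;>
        first | omega | exact h6 (by norm_num)
    obtain ⟨hlt, hnd⟩ := hbig m hm
    rw [show (2 * (x : ℤ)) = 2 * a.x by simp [a]] at hlt hnd
    exact hnd ((hUsm m hmk).dvd_pow hlt)
  have hfirst := List.all_eq_true.1 first_ok _ hl
  simp only [firstOK, List.all_eq_true, List.mem_range, Bool.or_eq_true, Bool.and_eq_true,
    decide_eq_true_eq] at hfirst
  have hpw := pow_eq_pw a k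
  rw [← hk] at hpw
  simp only [a, c, Solution₁.x_mk, Solution₁.y_mk] at hpw
  rcases hfirst k hk5 with ((h | h) | h) | ⟨h, hh⟩
  · rw [← hpw] at h; simp only at h; omega
  · exact absurd h hk0
  · rw [← hpw] at h
    simp only at h
    rwa [show ((((2 * n + 1 : ℕ) : ℤ)) / 2).toNat = n by omega] at h
  · rw [← hpw] at h hh
    simp only [Int.natAbs_natCast] at h hh
    exact absurd (hysm.dvd_pow h) hh

end Cfsg.Agent.Lib.LargePrimeTwo42.Smooth
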