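import Cfsg.Agent.Lib.LargePrimeTwo42.Numeric
import Cfsg.Agent.Lib.LargePrimeTwo42.Smooth

/-!
# The numerical search finds every candidate
-/

set_option autoImplicit false

namespace Cfsg.Agent.Lib.LargePrimeTwo42.Sound

open Numeric Smooth

theorem fact_P4 (a b c d : ℕ) : (P4 a b c d).factorization 2 = a ∧
    (P4 a b c d).factorization 3 = b ∧ (P4 a b c d).factorization 5 = c ∧
    (P4 a b c d).factorization 7 = d := by
  have h2 := Nat.prime_two; have h3 := Nat.prime_three
  have h5 : Nat.Prime 5 := by norm_num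
  have h7 : Nat.Prime 7 := by norm_num
  simp only [P4, Nat.factorization_mul (by positivity : 2 ^ a * 3 ^ b * 5 ^ c ≠ 0)
    (by positivity : (7 : ℕ) ^ d ≠ 0), Nat.factorization_mul (by positivity : 2 ^ a * 3 ^ b ≠ 0)
    (by positivity : (5 : ℕ) ^ c ≠ 0), Nat.factorization_mul (by positivity : (2 : ℕ) ^ a ≠ 0)
    (by positivity : (3 : ℕ) ^ b ≠ 0), h2.factorization_pow, h3.factorization_pow,
    h5.factorization_pow, h7.factorization_pow, Finsupp.add_apply, Finsupp.single_apply]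
  norm_num

theorem eq_P4 {n : ℕ} (h : Sm n) :
    n = P4 (n.factorization 2) (n.factorization 3) (n.factorization 5) (n.factorization 7) := by
  refine Nat.eq_of_factorization_eq h.1 (by simp [P4]) fun r => ?_
  obtain ⟨a2, a3, a5, a7⟩ := fact_P4 (n.factorization 2) (n.factorization 3) (n.factorization 5)
    (n.factorization 7)
  by_cases hr : r ∈ [2, 3, 5, 7]
  · simp only [List.mem_cons, List.not_mem_nil, or_false] at hr
    rcases hr with rfl | rfl | rfl | rfl <;> simp [a2, a3, a5, a7]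
  · by_cases hrp : r.Prime
    · rw [Nat.factorization_eq_zero_of_not_dvd fun hd => hr (h.2 r hrp hd)]
      refine (Nat.factorization_eq_zero_of_not_dvd fun hd => hr ?_).symm
      unfold P4 at hd
      rcases (hrp.dvd_mul.1 hd) with hd | hd
      · rcases (hrp.dvd_mul.1 hd) with hd | hd
        · rcases (hrp.dvd_mul.1 hd) with hd | hd
          · simp [(Nat.prime_dvd_prime_iff_eq hrp Nat.prime_two).1 (hrp.dvd_of_dvd_pow hd)]
          · simp [(Nat.prime_dvd_prime_iff_eq hrp Nat.prime_three).1 (hrp.dvd_of_dvd_pow hd)]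
        · simp [(Nat.prime_dvd_prime_iff_eq hrp (by norm_num)).1 (hrp.dvd_of_dvd_pow hd)]
      · simp [(Nat.prime_dvd_prime_iff_eq hrp (by norm_num)).1 (hrp.dvd_of_dvd_pow hd)]
    · simp [Nat.factorization_eq_zero_of_not_prime _ hrp]

theorem le_P4 (a b c d : ℕ) : 2 ^ a ≤ P4 a b c d ∧ P4 a b 0 0 ≤ P4 a b c d ∧
    P4 a b c 0 ≤ P4 a b c d ∧ 3 ^ b ≤ P4 a b c d ∧ 5 ^ c ≤ P4 a b c d ∧ 7 ^ d ≤ P4 a b c d := by
  have h0 : 0 < P4 a b c d := by unfold P4; positivity
  refine ⟨Nat.le_of_dvd h0 ?_, Nat.le_of_dvd h0 ?_, Nat.le_of_dvd h0 ?_, Nat.le_of_dvd h0 ?_,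
    Nat.le_of_dvd h0 ?_, Nat.le_of_dvd h0 ?_⟩ <;> simp only [P4, pow_zero, mul_one]
  · exact ((dvd_mul_right _ _).trans (dvd_mul_right _ _)).trans (dvd_mul_right _ _)
  · exact (dvd_mul_right _ _).trans (dvd_mul_right _ _)
  · exact dvd_mul_right _ _
  · exact ((dvd_mul_left _ _).trans (dvd_mul_right _ _)).trans (dvd_mul_right _ _)
  · exact (dvd_mul_left _ _).trans (dvd_mul_right _ _)
  · exact dvd_mul_left _ _

theorem ex_eq {q : ℕ} (hq : q.Prime) : ∀ k n, n ≠ 0 → n < 2 ^ k → ex q k n = n.factorization q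
  | 0, n, h0, hn => by simp at hn; omega
  | k + 1, n, h0, hn => by
    rw [ex, if_neg h0]
    split_ifs with hd
    · have hd' : q ∣ n := Nat.dvd_of_mod_eq_zero hd
      have hne : n / q ≠ 0 := (Nat.div_pos (Nat.le_of_dvd (Nat.pos_of_ne_zero h0) hd') hq.pos).ne'
      rw [ex_eq hq k _ hne, Nat.factorization_div hd', Finsupp.tsub_apply,
        hq.factorization_self]
      · have := hq.factorization_pos_of_dvd h0 hd'
        omega
      · rw [pow_succ] at hn
        refine Nat.div_lt_of_lt_mul (lt_of_lt_of_le hn ?_)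
        rw [mul_comm]
        exact Nat.mul_le_mul_right _ hq.two_le
    · rw [Nat.factorization_eq_zero_of_not_dvd fun h => hd (Nat.mod_eq_zero_of_dvd h)]

theorem vq_eq {q n : ℕ} (hq : q.Prime) (h0 : n ≠ 0) (hn : n < 10000) :
    vq q n = n.factorization q := ex_eq hq 30 n h0 (by omega)

/-! ## Membership -/

theorem lt_rad (n : ℕ) : n < rad n * rad n := by
  unfold rad
  simp only
  split_ifs with h
  · exact h
  · nlinarith

theorem le_ww {δ w : ℤ} (hδ : δ = 1 ∨ δ = -1) (hw : 1 ≤ w.natAbs) :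
    (w.natAbs - 1) * (w.natAbs - 1) ≤ ww δ w := by
  obtain ⟨n, hn⟩ : ∃ n : ℕ, w.natAbs = n + 1 := ⟨w.natAbs - 1, by omega⟩
  rw [hn, Nat.add_sub_cancel]
  unfold ww
  have key : ((n * n : ℕ) : ℤ) ≤ w * (w + δ) := by
    push_cast
    rcases Int.natAbs_eq w with h | h <;> rcases hδ with e | e <;> rw [h, hn, e] <;> push_cast <;>
      nlinarith
  omega

theorem mem_ws {x : Cand} {h : ℕ} {w : ℤ} (hp : 0 < x.p) (hD : 0 < x.D) (hC : 0 < x.C)
    (hδ : x.δ = 1 ∨ x.δ = -1) (hh : h ∣ x.M) (hM : 0 < x.M) (h1 : w < x.f)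
    (h2 : 1 + w ^ 2 + (((x.p - 1) / 2 : ℕ) : ℤ) * (w + x.δ) ^ 2 ≤ (h : ℤ))
    (h3 : term x h w ≤ x.B) (h4 : (h : ℤ) * x.D ∣ (x.C : ℤ) * ((x.f : ℤ) - w)) :
    w ∈ ws x h := by
  have hh0 : 0 < h := Nat.pos_of_ne_zero fun h0 => by subst h0; simp at hh; omega
  -- the square bound
  have hw : w.natAbs ≤ rad (h / x.p) + 1 := by
    obtain ⟨k, hk⟩ := hh
    have hk0 : 0 < k := Nat.pos_of_ne_zero fun h0 => by subst h0; simp at hk; omega
    have h3' : x.p * k * ww x.δ w ≤ h * k := by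
      have : x.B ≤ x.M := Nat.sub_le _ _
      unfold term at h3
      rw [hk, Nat.mul_div_cancel_left _ hh0] at h3
      omega
    have h5 : ww x.δ w ≤ h / x.p := by
      rw [Nat.le_div_iff_mul_le hp]
      exact Nat.le_of_mul_le_mul_right (by linarith : ww x.δ w * x.p * k ≤ h * k) hk0
    have h6 := lt_rad (h / x.p)
    by_contra hc
    have h7 : (rad (h / x.p) + 1) * (rad (h / x.p) + 1) ≤ (w.natAbs - 1) * (w.natAbs - 1) :=
      Nat.mul_le_mul (by omega) (by omega)
    have h8 := le_ww hδ (w := w) (by omega)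
    nlinarith
  obtain ⟨g, hg⟩ : ∃ g, g = Nat.gcd (h * x.D) x.C := ⟨_, rfl⟩
  have hg0 : 0 < g := hg ▸ Nat.gcd_pos_of_pos_right _ hC
  obtain ⟨X, hX⟩ : ∃ X : ℕ, (x.f : ℤ) - w = X := ⟨((x.f : ℤ) - w).toNat, by omega⟩
  have hdvd : h * x.D / g ∣ X := by
    rw [hX] at h4
    have h4' : h * x.D ∣ x.C * X := by exact_mod_cast h4
    subst hg
    refine (Nat.coprime_div_gcd_div_gcd hg0).dvd_of_dvd_mul_left ?_
    obtain ⟨u, hu⟩ := h4'
    refine ⟨u, Nat.eq_of_mul_eq_mul_left hg0 ?_⟩
    rw [← mul_assoc, Nat.mul_div_cancel' (Nat.gcd_dvd_right _ _), ← mul_assoc,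
      Nat.mul_div_cancel' (Nat.gcd_dvd_left _ _), hu]
  obtain ⟨h', hh'⟩ : ∃ h', h' = h * x.D / g := ⟨_, rfl⟩
  rw [← hh'] at hdvd
  have hh'0 : 0 < h' := hh' ▸ Nat.div_pos (Nat.le_of_dvd (Nat.mul_pos hh0 hD) (hg ▸ Nat.gcd_dvd_left _ _)) hg0
  obtain ⟨j, hj⟩ := hdvd
  unfold ws
  simp only [← hg, ← hh']
  rw [List.mem_filter]
  refine ⟨List.mem_map.2 ⟨j - (x.f - (rad (h / x.p) + 1)) / h', List.mem_range.2 ?_, ?_⟩,
    by simp only [Bool.and_eq_true, decide_eq_true_eq]; exact ⟨⟨⟨h1, h2⟩, h3⟩, h4⟩⟩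
  · generalize rad (h / x.p) + 1 = R at hw ⊢
    have e1 := Nat.div_add_mod (x.f - R) h'
    have e2 := Nat.mod_lt (x.f - R) hh'0
    have e3 := Nat.div_add_mod (2 * R) h'
    have e4 := Nat.mod_lt (2 * R) hh'0
    generalize (x.f - R) / h' = j0 at e1 ⊢
    generalize 2 * R / h' = u at e3 ⊢
    by_contra hlt
    have h9 : h' * (u + 3) ≤ h' * (j - j0) := Nat.mul_le_mul_left _ (not_lt.1 hlt)
    rw [Nat.mul_sub, mul_add] at h9
    omega
  · generalize rad (h / x.p) + 1 = R at hw ⊢
    have : (x.f - R) / h' ≤ j := by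
      rw [Nat.div_le_iff_le_mul hh'0]
      rw [mul_comm] at hj
      omega
    rw [Nat.add_sub_cancel' this]
    have : ((h' * j : ℕ) : ℤ) = (X : ℤ) := by rw [hj]
    push_cast at this
    omega

theorem mem_hs {x : Cand} {h : ℕ} (t3 t5 t7 : Bool) (hh : h ∣ x.M)
    (e3 : t3 = true → h.factorization 3 = x.m3) (e5 : t5 = true → h.factorization 5 = x.m5)
    (e7 : t7 = true → h.factorization 7 = x.m7) : h ∈ hs x t3 t5 t7 := by
  have hM : x.M ≠ 0 := by simp [Cand.M, P4]
  have h0 : h ≠ 0 := fun h => hM (by subst h; simpa using hh)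
  have hsm : Sm h := by
    refine ⟨h0, fun r hr hd => ?_⟩
    have hd' := hd.trans hh
    unfold Cand.M P4 at hd'
    rcases (hr.dvd_mul.1 hd') with hd' | hd'
    · rcases (hr.dvd_mul.1 hd') with hd' | hd'
      · rcases (hr.dvd_mul.1 hd') with hd' | hd'
        · simp [(Nat.prime_dvd_prime_iff_eq hr Nat.prime_two).1 (hr.dvd_of_dvd_pow hd')]
        · simp [(Nat.prime_dvd_prime_iff_eq hr Nat.prime_three).1 (hr.dvd_of_dvd_pow hd')]
      · simp [(Nat.prime_dvd_prime_iff_eq hr (by norm_num)).1 (hr.dvd_of_dvd_pow hd')]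
    · simp [(Nat.prime_dvd_prime_iff_eq hr (by norm_num)).1 (hr.dvd_of_dvd_pow hd')]
  have hle := (Nat.factorization_le_iff_dvd h0 hM).2 hh
  obtain ⟨a2, a3, a5, a7⟩ := fact_P4 x.m2 x.m3 x.m5 x.m7
  simp only [hs, List.mem_flatMap, List.mem_map, List.mem_range]
  have l2 := hle 2; have l3 := hle 3; have l5 := hle 5; have l7 := hle 7
  simp only [Cand.M, a2, a3, a5, a7] at l2 l3 l5 l7
  refine ⟨h.factorization 2, by omega, h.factorization 3, ?_, h.factorization 5, ?_,
    h.factorization 7, ?_, (eq_P4 hsm).symm⟩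
  · cases t3 <;> simp [expRange] <;> first | omega | exact e3 rfl
  · cases t5 <;> simp [expRange] <;> first | omega | exact e5 rfl
  · cases t7 <;> simp [expRange] <;> first | omega | exact e7 rfl

theorem mem_ins {a b : ℕ} : ∀ {l : List ℕ}, b ∈ ins a l ↔ b = a ∨ b ∈ l
  | [] => by simp [ins]
  | c :: l => by
    rw [ins]
    split_ifs with h1 h2
    · subst h1; simp
    · simp
    · simp only [List.mem_cons, mem_ins (l := l)]; tauto

theorem mem_foldr_ins {b : ℕ} : ∀ {l : List ℕ}, b ∈ l.foldr ins [] ↔ b ∈ l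
  | [] => by simp
  | a :: l => by rw [List.foldr_cons, mem_ins, mem_foldr_ins (l := l), List.mem_cons]

/-- A sum of entries of the list. -/
def Rep : List ℕ → ℕ → Prop
  | [], r => r = 0
  | v :: V, r => ∃ j, j * v ≤ r ∧ Rep V (r - j * v)

theorem rep_zero : ∀ V : List ℕ, Rep V 0
  | [] => rfl
  | v :: V => ⟨0, by simp, by simpa using rep_zero V⟩

theorem rep_add : ∀ {V : List ℕ} {v r : ℕ}, v ∈ V → Rep V r → Rep V (v + r)
  | [], _, _, h, _ => by simp at h
  | a :: V, v, r, h, ⟨j, hj, hr⟩ => by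
    rcases List.mem_cons.1 h with rfl | h
    · refine ⟨j + 1, by rw [add_mul, one_mul]; omega, ?_⟩
      rw [show v + r - (j + 1) * v = r - j * v by rw [add_mul, one_mul]; omega]
      exact hr
    · refine ⟨j, by omega, ?_⟩
      rw [show v + r - j * a = v + (r - j * a) by omega]
      exact rep_add h hr

theorem rep_sum {V : List ℕ} {α : Type*} (s : Finset α) (g : α → ℕ)
    (h : ∀ a ∈ s, g a = 0 ∨ g a ∈ V) : Rep V (∑ a ∈ s, g a) := by
  classical
  induction s using Finset.induction_on with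
  | empty => exact rep_zero V
  | @insert a s ha ih =>
    rw [Finset.sum_insert ha]
    have := ih fun b hb => h b (Finset.mem_insert_of_mem hb)
    rcases h a (Finset.mem_insert_self _ _) with h0 | hV
    · rwa [h0, zero_add]
    · exact rep_add hV this

theorem canSum_of_rep : ∀ {V : List ℕ} {r : ℕ}, Rep V r → canSum V r = true
  | [], r, h => by simp [canSum, show r = 0 from h]
  | v :: V, r, ⟨j, hj, h⟩ => by
    rw [canSum]
    split_ifs with h1 h2
    · rfl
    · subst h2; simpa using canSum_of_rep (by simpa using h)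
    · refine List.any_eq_true.2 ⟨j, List.mem_range.2 ?_, canSum_of_rep h⟩
      exact Nat.lt_succ_of_le ((Nat.le_div_iff_mul_le (Nat.pos_of_ne_zero h2)).2 hj)

/-! ## The search -/

theorem mem_mList {p f e q d m c : ℕ} (hq2 : 3 ≤ q) (hpar : 2 ∣ m + (vq q f + vq q e))
    (hc : 2 * c + (vq q f + vq q e) = m + 2 * d) (hcm : c ≤ m)
    (hf : vq q f ≤ m) (he : vq q e ≤ m) (hqp : q = p → m = 0) (hf0 : 0 < f) (hf' : f < 10000)
    (hn : q ^ ((m + (vq q f + vq q e)) / 2) * (q - 1) ≤ q * f) :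
    (m, c) ∈ mList p f e q d := by
  obtain ⟨n, hn2⟩ := hpar
  simp only [show (m + (vq q f + vq q e)) / 2 = n by omega] at hn
  refine List.mem_map.2 ⟨n, List.mem_filter.2 ⟨List.mem_range.2 ?_, ?_⟩, ?_⟩
  · by_contra h10
    obtain ⟨k, rfl⟩ : ∃ k, n = k + 1 := ⟨n - 1, by omega⟩
    have h1 : q ^ k ≤ f := by
      refine Nat.le_of_mul_le_mul_left ?_ (show 0 < q by omega)
      rw [← pow_succ']
      exact le_trans (Nat.le_mul_of_pos_right _ (by omega)) hn
    -- rule out `q = 2` too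
    by_cases hk : 14 ≤ k
    · have := (Nat.pow_le_pow_left (show 2 ≤ q by omega) 14).trans (Nat.pow_le_pow_right (by omega) hk)
      norm_num at this
      omega
    · rcases (show q = 2 ∨ 3 ≤ q by omega) with rfl | h3
      · omega
      · have := (Nat.pow_le_pow_left h3 9).trans (Nat.pow_le_pow_right (by omega) (show 9 ≤ k by omega))
        norm_num at this
        omega
  · simp only [mOK, Bool.and_eq_true, decide_eq_true_eq, Bool.or_eq_true]
    refine ⟨⟨⟨⟨⟨⟨by omega, hn⟩, by omega⟩, by omega⟩, ?_⟩, by omega⟩, by omega⟩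
    by_cases h : q = p
    · exact Or.inr (by have := hqp h; omega)
    · exact Or.inl h
  · exact Prod.ext (by omega) (by omega)

theorem cases_small : ∀ c ∈ cases, 0 < c.2.1 ∧ c.2.1 < 9000 ∧ 0 < eOf c.2.1 c.2.2 ∧
    c.2.1 + c.2.1 / c.1 + 2 < 5500 ∧ (c.2.2 = 1 ∨ c.2.2 = -1) := by decide +kernel

theorem search {p f M C D : ℕ} {δ : ℤ} (hc : (p, f, δ) ∈ cases) (hM : Sm M) (hC : Sm C)
    (hD : Sm D) (heq : C * C * (f * eOf f δ) = M * (D * D)) (hCM : C ∣ M)
    (h2 : C.factorization 2 = M.factorization 2) (h4 : 2 ≤ M.factorization 2)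
    (hbd : D ≤ f + f / p + 2) (hf : f ∣ M) (he : eOf f δ ∣ M)
    (hqp : ∀ q ∈ [3, 5, 7], q = p → M.factorization q = 0)
    (hn : ∀ q ∈ [3, 5, 7],
      q ^ ((M.factorization q + (f.factorization q + (eOf f δ).factorization q)) / 2) * (q - 1) ≤
        q * f)
    (hok : candOK ⟨p, f, δ, M.factorization 2, M.factorization 3, M.factorization 5,
      M.factorization 7, C, D⟩ = true) :
    (p, f, M, C) ∈ nilList ++ tightList ∨
      killed ⟨p, f, δ, M.factorization 2, M.factorization 3, M.factorization 5,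
        M.factorization 7, C, D⟩ = true := by
  obtain ⟨hf0, hfs, he0, hbd', hδ⟩ := cases_small _ hc
  simp only at hf0 hfs he0 hbd' hδ
  have hes : eOf f δ < 10000 := by unfold eOf; omega
  have hfact : ∀ q, 2 * C.factorization q + (f.factorization q + (eOf f δ).factorization q) =
      M.factorization q + 2 * D.factorization q := fun q => by
    have h := congrArg (fun n => n.factorization q) heq
    simp only [Nat.factorization_mul (mul_ne_zero hC.1 hC.1) (mul_ne_zero hf0.ne' he0.ne'),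
      Nat.factorization_mul hC.1 hC.1, Nat.factorization_mul hf0.ne' he0.ne',
      Nat.factorization_mul hM.1 (mul_ne_zero hD.1 hD.1), Nat.factorization_mul hD.1 hD.1,
      Finsupp.add_apply] at h
    omega
  have hle := (Nat.factorization_le_iff_dvd hC.1 hM.1).2 hCM
  have hlef := (Nat.factorization_le_iff_dvd hf0.ne' hM.1).2 hf
  have hlee := (Nat.factorization_le_iff_dvd he0.ne' hM.1).2 he
  have hmem : ∀ q ∈ [3, 5, 7], (M.factorization q, C.factorization q) ∈
      mList p f (eOf f δ) q (D.factorization q) := fun q hq => by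
    have hq' : q.Prime := by simp at hq; rcases hq with rfl | rfl | rfl <;> norm_num
    have h3 : 3 ≤ q := by simp at hq; omega
    have e1 := vq_eq hq' hf0.ne' (by omega)
    have e2 := vq_eq hq' he0.ne' hes
    have := hfact q
    exact mem_mList h3 (by rw [e1, e2]; omega) (by rw [e1, e2]; omega) (hle q)
      (by rw [e1]; exact hlef q) (by rw [e2]; exact hlee q) (hqp q hq) hf0 (by omega)
      (by rw [e1, e2]; exact hn q hq)
  have hall := List.all_eq_true.1 check_all _ hc
  simp only [check, List.all_eq_true, List.mem_range, Bool.or_eq_true, decide_eq_true_eq,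
    Bool.not_eq_eq_eq_not, Bool.not_true] at hall
  obtain ⟨l2, l23, l235, p3, p5, p7⟩ :=
    le_P4 (D.factorization 2) (D.factorization 3) (D.factorization 5) (D.factorization 7)
  have hDe := (eq_P4 hD).symm
  rw [hDe] at l2 l23 l235 p3 p5 p7
  have hr2 := hfact 2
  have hv : vq 2 f + vq 2 (eOf f δ) = f.factorization 2 + (eOf f δ).factorization 2 := by
    rw [vq_eq Nat.prime_two hf0.ne' (by omega), vq_eq Nat.prime_two he0.ne' hes]
  have b2 : D.factorization 2 < 13 := by
    by_contra hh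
    have := (Nat.pow_le_pow_right (n := 2) (by norm_num) (not_lt.1 hh)).trans (l2.trans hbd)
    norm_num at this
    omega
  have b3 : D.factorization 3 < 8 := by
    by_contra hh
    have := (Nat.pow_le_pow_right (n := 3) (by norm_num) (not_lt.1 hh)).trans (p3.trans hbd)
    norm_num at this
    omega
  have b5 : D.factorization 5 < 6 := by
    by_contra hh
    have := (Nat.pow_le_pow_right (n := 5) (by norm_num) (not_lt.1 hh)).trans (p5.trans hbd)
    norm_num at this
    omega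
  have b7 : D.factorization 7 < 5 := by
    by_contra hh
    have := (Nat.pow_le_pow_right (n := 7) (by norm_num) (not_lt.1 hh)).trans (p7.trans hbd)
    norm_num at this
    omega
  rcases hall _ b2 with (h | h) | h
  · omega
  · omega
  rcases h _ b3 with h | h
  · omega
  rcases h _ b5 with h | h
  · omega
  rcases h _ b7 with h | h
  · omega
  have key := h _ (hmem 3 (by simp)) _ (hmem 5 (by simp)) _ (hmem 7 (by simp))
  rw [show 2 * D.factorization 2 - (vq 2 f + vq 2 (eOf f δ)) = M.factorization 2 by omega,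
    hDe] at key
  simp only at key
  rw [show P4 (M.factorization 2) (C.factorization 3) (C.factorization 5) (C.factorization 7) = C by
    rw [← h2]; exact (eq_P4 hC).symm] at key
  rcases key with (h | h) | h
  · rw [hok] at h; exact absurd h (by simp)
  · left
    simp only [isFinal, Cand.M, ← eq_P4 hM] at h
    simpa using h
  · exact Or.inr h

theorem mem_vals {x : Cand} {h : ℕ} {w : ℤ} (hh : h ∈ hs x false false false) (hw : w ∈ ws x h)
    (h0 : term x h w ≠ 0) : term x h w ∈ vals x :=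
  mem_foldr_ins.2 (List.mem_filter.2
    ⟨List.mem_flatMap.2 ⟨h, hh, List.mem_map.2 ⟨w, hw, rfl⟩⟩, by simpa using h0⟩)

theorem mem_mand {x : Cand} {q m h : ℕ} {w : ℤ} (hm : m ≠ 0)
    (hh : h ∈ hs x (q == 3) (q == 5) (q == 7)) (hw : w ∈ ws x h)
    (hq : (q : ℤ) ∣ (x.f : ℤ) - w) : term x h w ∈ mand x q m := by
  rw [mand, if_neg hm]
  exact mem_foldr_ins.2 (List.mem_flatMap.2 ⟨h, hh, List.mem_map.2 ⟨w, List.mem_filter.2
    ⟨hw, by simpa using Int.emod_eq_zero_of_dvd hq⟩, rfl⟩⟩)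

theorem false_of_killed {x : Cand} {a b c r : ℕ} (hk : killed x = true)
    (ha : a ∈ mand x 3 x.m3) (hb : b ∈ mand x 5 x.m5) (hc : c ∈ mand x 7 x.m7)
    (hr : Rep (vals x) r) (h : x.B = term x x.C ((x.f : ℤ) - x.D) + a + b + c + r) : False := by
  simp only [killed, List.all_eq_true, Bool.or_eq_true, decide_eq_true_eq,
    Bool.not_eq_eq_eq_not, Bool.not_true] at hk
  rcases hk a ha b hb c hc with hlt | hcs
  · omega
  · rw [show x.B - (term x x.C ((x.f : ℤ) - x.D) + a + b + c) = r by omega,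
      canSum_of_rep hr] at hcs
    exact absurd hcs (by simp)

end Cfsg.Agent.Lib.LargePrimeTwo42.Sound
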