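import Cfsg.Agent.Lib.LargePrimeTwo42.Classes
import Cfsg.Agent.Lib.LargePrimeTwo42.Sound

/-!
# The orders that survive
-/

set_option autoImplicit false
set_option linter.style.haveILetI false
set_option linter.unusedSectionVars false

namespace Cfsg.Agent.Lib.LargePrimeTwo42.Survivors

open Numeric Smooth Chars Classes Sound

universe u

/-- The primes dividing `f - δ`. -/
def bigPrimes : List ℕ :=
  [2, 3, 5, 7, 11, 13, 17, 19, 23, 29, 31, 37, 41, 47, 79, 113, 127, 223, 547, 1201, 2399, 4373]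

theorem prime_bigPrimes : ∀ q ∈ bigPrimes, Nat.Prime q := by
  simp only [bigPrimes, List.mem_cons, List.not_mem_nil, or_false, forall_eq_or_imp, forall_eq]
  norm_num

theorem cover : ∀ n ∈ smallList,
    (n < 2 ∨ n - 1 ∣ bigPrimes.prod ^ 13) ∧ n + 2 ∣ bigPrimes.prod ^ 13 := by
  decide +kernel

theorem cover_cases : ∀ n ∈ smallList, ∀ q ∈ bigPrimes,
    (q < 5 ∨ n < 2 ∨ ¬ q ∣ n - 1 ∨ q ∣ n ∨ q ∣ n + 1 ∨ (q, n, (1 : ℤ)) ∈ cases) ∧
    (q < 5 ∨ n < 2 ∨ ¬ q ∣ n + 2 ∨ q ∣ n ∨ q ∣ n + 1 ∨ (q, n + 1, (-1 : ℤ)) ∈ cases) := by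
  decide +kernel

theorem exists_bigPrimes {p N : ℕ} (hp : p.Prime) (hd : p ∣ N) (hN : N ∣ bigPrimes.prod ^ 13) :
    p ∈ bigPrimes := by
  obtain ⟨q, hq, hpq⟩ := (Nat.prime_iff.1 hp).dvd_prod_iff.1 (hp.dvd_of_dvd_pow (hd.trans hN))
  exact (Nat.prime_dvd_prime_iff_eq hp (prime_bigPrimes q hq)).1 hpq ▸ hq

theorem card_class {G : Type u} [Group G] [Fintype G] [IsSimpleGroup G] [DecidableEq (ConjClasses G)] (g : G)
    {p M : ℕ} (hG : Nat.card G = p * M) (hd : cc g ∣ M) :
    (Finset.univ.filter fun h : G => ConjClasses.mk h = ConjClasses.mk g).card = p * (M / cc g) := by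
  have h1 := SmallGroups.Counting.card_isConj_mul g
  have e : (Finset.univ.filter fun h : G => ConjClasses.mk h = ConjClasses.mk g).card =
      Nat.card {y : G // IsConj g y} := by
    rw [← Fintype.card_subtype, ← Nat.card_eq_fintype_card]
    exact Nat.card_congr (Equiv.subtypeEquivRight fun y => by
      rw [ConjClasses.mk_eq_mk_iff_isConj]; exact isConj_comm)
  rw [e]
  refine Nat.eq_of_mul_eq_mul_right (cc_pos g) ?_
  rw [mul_assoc, Nat.div_mul_cancel hd, ← hG]
  exact h1

theorem orderOf_eq_of_mk {G : Type u} [Group G] {g h : G}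
    (e : ConjClasses.mk g = ConjClasses.mk h) : orderOf g = orderOf h := by
  obtain ⟨b, rfl⟩ := isConj_iff.1 (ConjClasses.mk_eq_mk_iff_isConj.1 e)
  exact ((MulAut.conj b).orderOf_eq g).symm

variable {G : Type u} [Group G] [Finite G] [IsSimpleGroup G] {p : ℕ} [hp : Fact p.Prime]
  (S : Setup G p)

theorem sm_M {a b c d : ℕ} (h : Nat.card G = 2 ^ a * 3 ^ b * 5 ^ c * 7 ^ d * p) :
    S.M = P4 a b c d := by
  refine Nat.eq_of_mul_eq_mul_left hp.out.pos ?_
  rw [← card_G S, h, P4, mul_comm]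

theorem sm_P4 (a b c d : ℕ) : Sm (P4 a b c d) := by
  refine ⟨by simp [P4], fun r hr hd => ?_⟩
  unfold P4 at hd
  rcases (hr.dvd_mul.1 hd) with hd | hd
  · rcases (hr.dvd_mul.1 hd) with hd | hd
    · rcases (hr.dvd_mul.1 hd) with hd | hd
      · simp [(Nat.prime_dvd_prime_iff_eq hr Nat.prime_two).1 (hr.dvd_of_dvd_pow hd)]
      · simp [(Nat.prime_dvd_prime_iff_eq hr Nat.prime_three).1 (hr.dvd_of_dvd_pow hd)]
    · simp [(Nat.prime_dvd_prime_iff_eq hr (by norm_num)).1 (hr.dvd_of_dvd_pow hd)]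
  · simp [(Nat.prime_dvd_prime_iff_eq hr (by norm_num)).1 (hr.dvd_of_dvd_pow hd)]

theorem mem_cases (hM : Sm S.M) : (p, S.f, S.D.δ) ∈ cases := by
  have hf : Sm S.f := hM.of_dvd (f_dvd_M S)
  have he : Sm S.e := hM.of_dvd (e_dvd_M S)
  have h2 := S.two_le_f
  have h2' := two_le_e S
  have he' := e_eq S
  have hd := deg_cong S
  have h5 := S.p5
  rcases S.D.δ_unit with d | d <;> rw [d] at he' hd ⊢
  · have hn := mem_of_consecutive hf (show Sm (S.f + 1) from (show S.e = S.f + 1 by omega) ▸ he)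
    have hd' : p ∣ S.f - 1 := by
      rw [← Int.natCast_dvd_natCast, Nat.cast_sub (by omega)]; exact_mod_cast hd
    obtain ⟨hcov, -⟩ := cover _ hn
    have hq := exists_bigPrimes hp.out hd' (hcov.resolve_left (by omega))
    rcases (cover_cases _ hn p hq).1 with h | h | h | h | h | h
    · omega
    · omega
    · exact absurd hd' h
    · exact absurd h (not_dvd_f S)
    · exact absurd h ((show S.e = S.f + 1 by omega) ▸ not_dvd_e S)
    · exact h
  · have hn := mem_of_consecutive he (show Sm (S.e + 1) from (show S.f = S.e + 1 by omega) ▸ hf)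
    have hd' : p ∣ S.e + 2 := by
      rw [← Int.natCast_dvd_natCast]; push_cast; rw [he']
      simpa [sub_eq_add_neg, add_assoc] using hd
    obtain ⟨-, hcov⟩ := cover _ hn
    have hq := exists_bigPrimes hp.out hd' hcov
    rw [show S.f = S.e + 1 by omega]
    rcases (cover_cases _ hn p hq).2 with h | h | h | h | h | h
    · omega
    · omega
    · exact absurd hd' h
    · exact absurd h (not_dvd_e S)
    · exact absurd h ((show S.f = S.e + 1 by omega) ▸ not_dvd_f S)
    · exact h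

/-- Every candidate outside the two lists is excluded. -/
theorem survivor (hM : Sm S.M) {z : G} (hz : orderOf z = 2) :
    (p, S.f, S.M, cc z) ∈ nilList ++ tightList := by
  classical
  haveI := Fintype.ofFinite G
  have hcases := mem_cases S hM
  have hz1 : z ≠ 1 := fun e => by rw [e, orderOf_one] at hz; norm_num at hz
  have hzr := regular_of_two S hz
  have hCM : cc z ∣ S.M := cent_dvd_M S hzr hz1
  have hC : Sm (cc z) := hM.of_dvd hCM
  have hlt := w_lt S hz1
  obtain ⟨D, hD⟩ : ∃ D : ℕ, (D : ℤ) = (S.f : ℤ) - S.w z :=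
    ⟨((S.f : ℤ) - S.w z).toNat, by omega⟩
  have hD0 : 0 < D := by omega
  have heq : cc z * cc z * (S.f * S.e) = S.M * (D * D) := by
    have h := class_eq S hz
    rw [← hD] at h
    rw [← Int.natCast_inj]
    push_cast
    linear_combination h
  have hDsm : Sm D := by
    refine ⟨hD0.ne', fun r hr hd => ?_⟩
    have h1 : r ∣ cc z * cc z * (S.f * S.e) :=
      heq ▸ (hd.trans (dvd_mul_right D D)).mul_left _
    have hfe : Sm (S.f * S.e) := (hM.of_dvd (f_dvd_M S)).mul (hM.of_dvd (e_dvd_M S))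
    exact ((hC.mul hC).mul hfe).2 r hr h1
  have hp5 := S.p5
  have hp0 := hp.out.pos
  -- a bound for `D`
  have hnb := normalizer_bound S hz fun u hu => w_isConj S (isConj_involution S hu hz)
  have hbd : D ≤ S.f + S.f / p + 2 := by
    by_contra hb
    have h1 : S.f + S.f / p + 3 ≤ D := by omega
    have h2 := Nat.lt_div_mul_add (a := S.f) hp0
    have h3 : ((p * (S.f + S.f / p + 3) : ℕ) : ℤ) ≤ (p : ℤ) * D := by
      exact_mod_cast Nat.mul_le_mul_left p h1
    have h4 : ((S.f : ℕ) : ℤ) < ((S.f / p * p + p : ℕ) : ℤ) := by exact_mod_cast h2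
    push_cast at h3 h4
    rcases S.D.δ_unit with d | d <;> rw [d] at hnb <;> nlinarith
  -- the Sylow `2`-subgroup
  haveI : Fact (Nat.Prime 2) := ⟨Nat.prime_two⟩
  have h4 := four_dvd S
  obtain ⟨u, hu, hu2⟩ := exists_central S Nat.prime_two ((by norm_num : (2 : ℕ) ∣ 4).trans h4)
    (by omega)
  have hcu : cc u = cc z := by
    obtain ⟨b, hb⟩ := isConj_iff.1 (isConj_involution S hu hz)
    have h1 := SmallGroups.Counting.card_isConj_mul u
    have h2 := SmallGroups.Counting.card_isConj_mul z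
    rw [Nat.card_congr (Equiv.subtypeEquivRight fun y => (show IsConj u y ↔ IsConj z y from
      ⟨fun h => (isConj_involution S hz hu).trans h,
        fun h => (isConj_involution S hu hz).trans h⟩))] at h1
    haveI : Nonempty {y : G // IsConj z y} := ⟨⟨z, IsConj.refl z⟩⟩
    exact Nat.eq_of_mul_eq_mul_left Nat.card_pos (h1.trans h2.symm)
  have hC2 : (cc z).factorization 2 = S.M.factorization 2 := by
    refine le_antisymm ((Nat.factorization_le_iff_dvd hC.1 hM.1).2 hCM 2) ?_
    exact (Nat.prime_two.pow_dvd_iff_le_factorization hC.1).1 (hcu ▸ hu2)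
  have hm4 : 2 ≤ S.M.factorization 2 :=
    (Nat.prime_two.pow_dvd_iff_le_factorization hM.1).1 (by norm_num; exact h4)
  obtain ⟨hle, hrow⟩ := row S
  have horth : ∀ g : G, ¬ p ∣ orderOf g → g ≠ 1 →
      1 + S.w g ^ 2 + (((p - 1) / 2 : ℕ) : ℤ) * (S.w g + S.D.δ) ^ 2 ≤ (cc g : ℤ) :=
    fun g hg _ => orth S hg
  set x : Cand := ⟨p, S.f, S.D.δ, S.M.factorization 2, S.M.factorization 3, S.M.factorization 5,
    S.M.factorization 7, cc z, D⟩ with hx
  have hxM : x.M = S.M := (eq_P4 hM).symm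
  have hxB : x.B = S.M - S.f * S.e := by show x.M - _ = _; rw [hxM]; rfl
  have hsum : ∑ c ∈ (reg (G := G) p).image ConjClasses.mk,
      ∑ g ∈ (reg (G := G) p).filter (fun g => ConjClasses.mk g = c), ww S.D.δ (S.w g) = x.B := by
    rw [Finset.sum_fiberwise_of_maps_to (fun g hg => Finset.mem_image_of_mem _ hg), hrow, hxB]
  set F : ConjClasses G → ℕ := fun c =>
    ∑ g ∈ (reg (G := G) p).filter (fun g => ConjClasses.mk g = c), ww S.D.δ (S.w g) with hF
  have hFval : ∀ g ∈ reg (G := G) p, F (ConjClasses.mk g) = term x (cc g) (S.w g) := fun g hg => by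
    obtain ⟨-, hg1, hgp⟩ := Finset.mem_filter.1 hg
    have hcls : (reg (G := G) p).filter (fun h => ConjClasses.mk h = ConjClasses.mk g) =
        Finset.univ.filter fun h => ConjClasses.mk h = ConjClasses.mk g := by
      ext h
      simp only [Finset.mem_filter, reg, Finset.mem_univ, true_and]
      refine ⟨fun h' => h'.2, fun h' => ⟨?_, h'⟩⟩
      have ho := orderOf_eq_of_mk h'
      exact ⟨fun e => hg1 (orderOf_eq_one_iff.1 (by rw [← ho, e, orderOf_one])), ho ▸ hgp⟩
    show ∑ h ∈ (reg (G := G) p).filter (fun h => ConjClasses.mk h = ConjClasses.mk g), _ = _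
    rw [hcls, Finset.sum_congr rfl (g := fun _ => ww S.D.δ (S.w g)) fun h hh => by
        rw [w_isConj S (ConjClasses.mk_eq_mk_iff_isConj.1 (Finset.mem_filter.1 hh).2)],
      Finset.sum_const, smul_eq_mul, card_class g (card_G S) (cent_dvd_M S hgp hg1), term, hxM]
  have hregz : z ∈ reg (G := G) p := by simp [reg, hz1, hzr]
  have hFle : ∀ g ∈ reg (G := G) p, term x (cc g) (S.w g) ≤ x.B := fun g hg => by
    rw [← hFval g hg, ← hsum]
    exact Finset.single_le_sum (fun _ _ => Nat.zero_le _) (Finset.mem_image_of_mem _ hg)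
  have hwz : (x.f : ℤ) - x.D = S.w z := by show (S.f : ℤ) - D = S.w z; omega
  have hok : candOK x = true := by
    have h1 := (sylow_mod S).1
    have h2 := hFle z hregz
    have h3 := horth z hzr hz1
    rw [← hwz] at h2 h3
    simp only [candOK, Bool.and_eq_true, decide_eq_true_eq]
    refine ⟨⟨⟨⟨?_, ?_⟩, ?_⟩, h2⟩, h3⟩
    · rw [hxM]; exact h1
    · rw [hxM]; exact hle
    · rw [hwz]; exact hnb
  have hfq : ∀ q, q.Prime → q ∈ [3, 5, 7] → q ≠ p → q ∣ S.M → ∃ u : G, orderOf u = q ∧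
      u ∈ reg (G := G) p ∧ (cc u).factorization q = S.M.factorization q ∧
      (q : ℤ) ∣ (S.f : ℤ) - S.w u ∧
      2 * ((S.f : ℤ) - S.w u).toNat.factorization q ≥ S.M.factorization q +
        (S.f.factorization q + S.e.factorization q) ∧
      q ^ ((S.M.factorization q + (S.f.factorization q + S.e.factorization q)) / 2) * (q - 1) ≤
        q * S.f := fun q hq _ hqp hqM => by
    haveI : Fact q.Prime := ⟨hq⟩
    obtain ⟨u, hu, hu'⟩ := exists_central S hq hqM hqp
    have hu1 : u ≠ 1 := fun e => by rw [e, orderOf_one] at hu; exact hq.one_lt.ne hu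
    have hup : ¬ p ∣ orderOf u := by
      rw [hu]; exact fun h => hqp ((Nat.prime_dvd_prime_iff_eq hp.out hq).1 h).symm
    have hcd : cc u ∣ S.M := cent_dvd_M S hup hu1
    have hfac : (cc u).factorization q = S.M.factorization q :=
      le_antisymm ((Nat.factorization_le_iff_dvd (cc_pos u).ne' hM.1).2 hcd q)
        ((hq.pow_dvd_iff_le_factorization (cc_pos u).ne').1 hu')
    obtain ⟨X, hX⟩ : ∃ X : ℕ, (X : ℤ) = (S.f : ℤ) - S.w u :=
      ⟨((S.f : ℤ) - S.w u).toNat, by have := w_lt S hu1; omega⟩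
    have hX0 : 0 < X := by have := w_lt S hu1; omega
    have hXt : ((S.f : ℤ) - S.w u).toNat = X := by omega
    have hdiv := class_dvd S hz hup hu1
    rw [← hX, ← hD] at hdiv
    have hdiv' : cc u * D ∣ cc z * X := by exact_mod_cast hdiv
    have h1 := (Nat.factorization_le_iff_dvd (mul_ne_zero (cc_pos u).ne' hD0.ne')
      (mul_ne_zero hC.1 hX0.ne')).2 hdiv' q
    rw [Nat.factorization_mul (cc_pos u).ne' hD0.ne', Nat.factorization_mul hC.1 hX0.ne',
      Finsupp.add_apply, Finsupp.add_apply, hfac] at h1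
    have hf0 : S.f ≠ 0 := by have := S.two_le_f; omega
    have he0 : S.e ≠ 0 := by have := two_le_e S; omega
    have h2 := congrArg (fun n => n.factorization q) heq
    simp only [Nat.factorization_mul (mul_ne_zero hC.1 hC.1) (mul_ne_zero hf0 he0),
      Nat.factorization_mul hC.1 hC.1, Nat.factorization_mul hf0 he0,
      Nat.factorization_mul hM.1 (mul_ne_zero hD0.ne' hD0.ne'),
      Nat.factorization_mul hD0.ne' hD0.ne', Finsupp.add_apply] at h2
    have hsn := sum_prime_nonneg S hq (hqM.trans ⟨p, by rw [card_G S, mul_comm]⟩) hu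
    have hub : X * (q - 1) ≤ q * S.f := by
      rw [← Int.ofNat_le, Nat.cast_mul, Nat.cast_mul, Nat.cast_sub hq.one_le, hX]
      push_cast
      linarith
    refine ⟨u, hu, by simp [reg, hu1, hup], hfac, w_prime S hq hu, by rw [hXt]; omega, ?_⟩
    refine le_trans (Nat.mul_le_mul_right _ ?_) hub
    exact Nat.le_of_dvd hX0 ((pow_dvd_pow q (by omega)).trans (Nat.ordProj_dvd X q))
  have hn : ∀ q ∈ [3, 5, 7],
      q ^ ((S.M.factorization q + (S.f.factorization q + S.e.factorization q)) / 2) * (q - 1) ≤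
        q * S.f := fun q hq => by
    have hq' : q.Prime := by simp at hq; rcases hq with rfl | rfl | rfl <;> norm_num
    by_cases h : q ≠ p ∧ q ∣ S.M
    · obtain ⟨u, -, -, -, -, -, h'⟩ := hfq q hq' hq h.1 h.2
      exact h'
    · have hqM : ¬ q ∣ S.M := fun hd => h ⟨fun e => not_dvd_M S (e ▸ hd), hd⟩
      rw [Nat.factorization_eq_zero_of_not_dvd hqM,
        Nat.factorization_eq_zero_of_not_dvd fun hd => hqM (hd.trans (f_dvd_M S)),
        Nat.factorization_eq_zero_of_not_dvd fun hd => hqM (hd.trans (e_dvd_M S))]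
      simp only [add_zero, Nat.zero_div, pow_zero, one_mul]
      exact le_trans (Nat.sub_le _ _) (Nat.le_mul_of_pos_right _ (by have := S.two_le_f; omega))
  rcases search hcases hM hC hDsm heq hCM hC2 hm4 hbd (f_dvd_M S) (e_dvd_M S)
    (fun q hq e => Nat.factorization_eq_zero_of_not_dvd (e ▸ not_dvd_M S)) hn hok with h | hk
  · exact h
  exfalso
  have hh : ∀ g ∈ reg (G := G) p, ∀ t3 t5 t7 : Bool,
      (t3 = true → (cc g).factorization 3 = x.m3) → (t5 = true → (cc g).factorization 5 = x.m5) →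
      (t7 = true → (cc g).factorization 7 = x.m7) →
      cc g ∈ hs x t3 t5 t7 ∧ S.w g ∈ ws x (cc g) := fun g hg t3 t5 t7 e3 e5 e7 => by
    obtain ⟨-, hg1, hgp⟩ := Finset.mem_filter.1 hg
    have hd : cc g ∣ x.M := hxM ▸ cent_dvd_M S hgp hg1
    refine ⟨mem_hs t3 t5 t7 hd e3 e5 e7, mem_ws hp0 hD0 (cc_pos z) S.D.δ_unit hd
      (hxM ▸ M_pos S) (w_lt S hg1) (horth g hgp hg1) (hFle g hg) ?_⟩
    have := class_dvd S hz hgp hg1
    rw [← hD] at this
    exact this
  have hone : ∀ q ∈ [3, 5, 7], ∃ T : Finset (ConjClasses G),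
      T ⊆ (reg (G := G) p).image ConjClasses.mk ∧
      (∀ g : G, ConjClasses.mk g ∈ T → orderOf g = q) ∧
      ∑ c ∈ T, F c ∈ mand x q (S.M.factorization q) := fun q hq => by
    have hq' : q.Prime := by simp at hq; rcases hq with rfl | rfl | rfl <;> norm_num
    by_cases hm : S.M.factorization q = 0
    · exact ⟨∅, Finset.empty_subset _, by simp, by simp [mand, hm]⟩
    · have hqM : q ∣ S.M := Nat.dvd_of_factorization_pos hm
      obtain ⟨u, hu, hur, hfac, hdv, -, -⟩ :=
        hfq q hq' hq (fun e => not_dvd_M S (e ▸ hqM)) hqM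
      refine ⟨{ConjClasses.mk u}, by simpa using ⟨u, hur, rfl⟩,
        fun g hg => (orderOf_eq_of_mk (Finset.mem_singleton.1 hg)).trans hu, ?_⟩
      rw [Finset.sum_singleton, hFval u hur]
      obtain ⟨h1, h2⟩ := hh u hur (q == 3) (q == 5) (q == 7)
        (fun e => by rw [beq_iff_eq] at e; subst e; exact hfac)
        (fun e => by rw [beq_iff_eq] at e; subst e; exact hfac)
        (fun e => by rw [beq_iff_eq] at e; subst e; exact hfac)
      exact mem_mand hm h1 h2 hdv
  obtain ⟨T3, s3, o3, a3⟩ := hone 3 (by simp)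
  obtain ⟨T5, s5, o5, a5⟩ := hone 5 (by simp)
  obtain ⟨T7, s7, o7, a7⟩ := hone 7 (by simp)
  have dj : ∀ (A B : Finset (ConjClasses G)) (i j : ℕ), i ≠ j →
      (∀ g : G, ConjClasses.mk g ∈ A → orderOf g = i) →
      (∀ g : G, ConjClasses.mk g ∈ B → orderOf g = j) → Disjoint A B := by
    intro A B i j hij hA hB
    rw [Finset.disjoint_left]
    intro c hcA hcB
    obtain ⟨g, rfl⟩ := ConjClasses.exists_rep c
    exact hij ((hA g hcA).symm.trans (hB g hcB))
  set Tz : Finset (ConjClasses G) := {ConjClasses.mk z} with hTz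
  have oz : ∀ g : G, ConjClasses.mk g ∈ Tz → orderOf g = 2 :=
    fun g hg => (orderOf_eq_of_mk (Finset.mem_singleton.1 hg)).trans hz
  have sz : Tz ⊆ (reg (G := G) p).image ConjClasses.mk := by
    simpa [hTz] using ⟨z, hregz, rfl⟩
  have hsplit := Finset.sum_sdiff (f := F)
    (Finset.union_subset (Finset.union_subset (Finset.union_subset sz s3) s5) s7)
  rw [Finset.sum_union (Finset.disjoint_union_left.2 ⟨Finset.disjoint_union_left.2
      ⟨dj _ _ 2 7 (by norm_num) oz o7, dj _ _ 3 7 (by norm_num) o3 o7⟩,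
      dj _ _ 5 7 (by norm_num) o5 o7⟩),
    Finset.sum_union (Finset.disjoint_union_left.2
      ⟨dj _ _ 2 5 (by norm_num) oz o5, dj _ _ 3 5 (by norm_num) o3 o5⟩),
    Finset.sum_union (dj _ _ 2 3 (by norm_num) oz o3)] at hsplit
  have hzv : ∑ c ∈ Tz, F c = term x x.C ((x.f : ℤ) - x.D) := by
    rw [hTz, Finset.sum_singleton, hFval z hregz, hwz]
  refine false_of_killed (x := x) hk a3 a5 a7
    (rep_sum (V := vals x) ((reg (G := G) p).image ConjClasses.mk \ (Tz ∪ T3 ∪ T5 ∪ T7)) F
      fun c hc => ?_) ?_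
  · obtain ⟨g, hg, rfl⟩ := Finset.mem_image.1 (Finset.mem_sdiff.1 hc).1
    rw [hFval g hg]
    by_cases h0 : term x (cc g) (S.w g) = 0
    · exact Or.inl h0
    · obtain ⟨h1, h2⟩ := hh g hg false false false (by simp) (by simp) (by simp)
      exact Or.inr (mem_vals h1 h2 h0)
  · rw [← hzv]
    have hsum' : ∑ c ∈ (reg (G := G) p).image ConjClasses.mk, F c = x.B := hsum
    omega

end Cfsg.Agent.Lib.LargePrimeTwo42.Survivors
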