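import Cfsg.Agent.Lib.LargePrimeTwo42.Survivors

/-!
# The case `M = f e`

Every regular element other than `1` has value `0` or `-δ`, and those with value `0` number
`f ^ 2 - 1`.
-/

set_option autoImplicit false
set_option linter.style.haveILetI false
set_option linter.unusedSectionVars false

namespace Cfsg.Agent.Lib.LargePrimeTwo42.Tight

open Numeric Chars Classes Survivors

universe u

variable {G : Type u} [Group G] [Finite G] [IsSimpleGroup G] {p : ℕ} [hp : Fact p.Prime]
  (S : Setup G p)

/-- The regular elements with value `0`. -/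
noncomputable def zeros [Fintype G] [DecidableEq G] (S : Setup G p) : Finset G :=
  (reg (G := G) p).filter fun g => S.w g = 0

variable (hM : S.M = S.f * S.e)

include hM in
theorem w_cases {g : G} (hg1 : g ≠ 1) (hgp : ¬ p ∣ orderOf g) :
    S.w g = 0 ∨ S.w g = -S.D.δ := by
  classical
  haveI := Fintype.ofFinite G
  obtain ⟨-, hrow⟩ := row S
  rw [← hM, Nat.sub_self, Finset.sum_eq_zero_iff] at hrow
  have h0 := hrow g (by simp [reg, hg1, hgp])
  unfold ww at h0
  have h1 : S.w g * (S.w g + S.D.δ) ≤ 0 := by omega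
  rcases S.D.δ_unit with d | d <;> rw [d] at h1 ⊢
  · rcases le_or_gt 1 (S.w g) with h | h
    · nlinarith
    rcases le_or_gt (S.w g) (-2) with h' | h'
    · nlinarith
    omega
  · rcases le_or_gt 2 (S.w g) with h | h
    · nlinarith
    rcases le_or_gt (S.w g) (-1) with h' | h'
    · nlinarith
    omega

include hM in
theorem cc_dvd {z : G} (hz : orderOf z = 2) {g : G} (hg1 : g ≠ 1) (hgp : ¬ p ∣ orderOf g) :
    (cc g : ℤ) ∣ (S.f : ℤ) - S.w g := by
  have hz1 : z ≠ 1 := fun e => by rw [e, orderOf_one] at hz; norm_num at hz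
  have h := class_eq S hz
  have hlt := w_lt S hz1
  rw [hM, Nat.cast_mul, mul_comm] at h
  have hfe : ((S.f : ℤ) * S.e) ≠ 0 := by
    have := S.two_le_f; have := two_le_e S
    exact mul_ne_zero (by omega) (by omega)
  have hD : ((cc z : ℤ)) ^ 2 = ((S.f : ℤ) - S.w z) ^ 2 := mul_left_cancel₀ hfe h
  have hC : (cc z : ℤ) = (S.f : ℤ) - S.w z :=
    (sq_eq_sq₀ (Int.natCast_nonneg _) (by omega)).1 hD
  have hd := class_dvd S hz hgp hg1
  rw [← hC] at hd
  exact (mul_dvd_mul_iff_left (Int.natCast_ne_zero.2 (cc_pos z).ne')).1 (by rwa [mul_comm] at hd)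

include hM in
theorem w_involution {z : G} (hz : orderOf z = 2) : (cc z : ℤ) = (S.f : ℤ) - S.w z := by
  have hz1 : z ≠ 1 := fun e => by rw [e, orderOf_one] at hz; norm_num at hz
  have h := class_eq S hz
  have hlt := w_lt S hz1
  rw [hM, Nat.cast_mul, mul_comm] at h
  have hfe : ((S.f : ℤ) * S.e) ≠ 0 := by
    have := S.two_le_f; have := two_le_e S
    exact mul_ne_zero (by omega) (by omega)
  exact (sq_eq_sq₀ (Int.natCast_nonneg _) (by omega)).1 (mul_left_cancel₀ hfe h)

include hM in
theorem card_zeros [Fintype G] [DecidableEq G] : ((zeros S).card : ℤ) = (S.f : ℤ) ^ 2 - 1 := by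
  classical
  have hsing := card_singular S
  have hlin := sum_w S
  have hG := card_G S
  have hR : (Finset.univ.filter fun g : G => ¬ p ∣ orderOf g) = insert 1 (reg (G := G) p) := by
    ext g
    simp only [reg, Finset.mem_insert, Finset.mem_filter, Finset.mem_univ, true_and]
    by_cases hg : g = 1
    · simp [hg, hp.out.ne_one]
    · simp [hg]
  have h1 : (1 : G) ∉ reg (G := G) p := by simp [reg]
  rw [← Finset.sum_filter_add_sum_filter_not Finset.univ (fun g : G => p ∣ orderOf g),
    Finset.sum_congr rfl (g := fun _ => S.D.δ) fun g hg => w_singular S (Finset.mem_filter.1 hg).2,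
    Finset.sum_const, nsmul_eq_mul, hR, Finset.sum_insert h1, w_one,
    ← Finset.sum_filter_add_sum_filter_not (reg (G := G) p) (fun g => S.w g = 0),
    Finset.sum_eq_zero (s := (reg (G := G) p).filter fun g => S.w g = 0)
      (fun g hg => (Finset.mem_filter.1 hg).2), zero_add,
    Finset.sum_congr rfl (g := fun _ => -S.D.δ) fun g hg => by
      obtain ⟨hg, hg0⟩ := Finset.mem_filter.1 hg
      obtain ⟨-, hg1, hgp⟩ := Finset.mem_filter.1 hg
      exact (w_cases S hM hg1 hgp).resolve_left hg0,
    Finset.sum_const, nsmul_eq_mul] at hlin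
  have htot := Finset.card_filter_add_card_filter_not (s := (Finset.univ : Finset G))
    (fun g : G => p ∣ orderOf g)
  rw [hR, Finset.card_insert_of_notMem h1,
    ← Finset.card_filter_add_card_filter_not (s := reg (G := G) p) (fun g => S.w g = 0),
    Finset.card_univ, ← Nat.card_eq_fintype_card, hG, hM] at htot
  rw [hM] at hsing
  have hsing' := congrArg (Nat.cast : ℕ → ℤ) hsing
  have htot' := congrArg (Nat.cast : ℕ → ℤ) htot
  push_cast [Nat.cast_sub hp.out.one_le] at hsing' htot'
  have he := e_eq S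
  rw [he] at hsing' htot'
  unfold zeros
  rcases S.D.δ_unit with d | d <;> rw [d] at hlin hsing' htot' <;> nlinarith

theorem class_card [Fintype G] [DecidableEq G] [DecidableEq (ConjClasses G)] {g : G}
    (hg1 : g ≠ 1) (hgp : ¬ p ∣ orderOf g) :
    (Finset.univ.filter fun h : G => ConjClasses.mk h = ConjClasses.mk g).card =
      p * (S.M / cc g) :=
  card_class g (card_G S) (cent_dvd_M S hgp hg1)

theorem class_subset [Fintype G] [DecidableEq G] [DecidableEq (ConjClasses G)] {g : G}
    (hg : g ∈ zeros S) :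
    (Finset.univ.filter fun h : G => ConjClasses.mk h = ConjClasses.mk g) ⊆ zeros S := by
  intro h hh
  have hmk := (Finset.mem_filter.1 hh).2
  have ho := orderOf_eq_of_mk hmk
  simp only [zeros, reg, Finset.mem_filter, Finset.mem_univ, true_and] at hg ⊢
  refine ⟨⟨fun e => hg.1.1 (orderOf_eq_one_iff.1 (by rw [← ho, e, orderOf_one])), ho ▸ hg.1.2⟩, ?_⟩
  rw [w_isConj S (ConjClasses.mk_eq_mk_iff_isConj.1 hmk)]
  exact hg.2

/-- An element of odd prime order dividing `f` has value `0`. -/
theorem w_zero_of_dvd (hM : S.M = S.f * S.e) {q : ℕ} (hq : q.Prime) (hqf : q ∣ S.f) {g : G}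
    (hg : orderOf g = q) : g ≠ 1 ∧ ¬ p ∣ orderOf g ∧ S.w g = 0 := by
  have hg1 : g ≠ 1 := fun e => by rw [e, orderOf_one] at hg; exact hq.one_lt.ne hg
  have hgp : ¬ p ∣ orderOf g := by
    rw [hg]
    intro h
    exact not_dvd_f S ((Nat.prime_dvd_prime_iff_eq hp.out hq).1 h ▸ hqf)
  refine ⟨hg1, hgp, (w_cases S hM hg1 hgp).resolve_right fun h => ?_⟩
  have h1 := w_prime S hq hg
  rw [h] at h1
  have h2 : (q : ℤ) ∣ S.D.δ := by
    have h3 := h1.sub (Int.natCast_dvd_natCast.2 hqf)
    simpa using h3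
  have h4 := Int.natAbs_dvd_natAbs.2 h2
  rcases S.D.δ_unit with d | d <;> rw [d] at h4 <;> simp at h4 <;> exact hq.ne_one h4

/-- The case `δ = 1`: the involutions are the zeros, so no odd prime divides `f`. -/
theorem false_of_pos (hM : S.M = S.f * S.e) (hδ : S.D.δ = 1) (hfp : S.f = p + 1)
    {z : G} (hz : orderOf z = 2) (hC : cc z = S.f) {q : ℕ} (hq : q.Prime) (hq2 : q ≠ 2)
    (hqf : q ∣ S.f) : False := by
  classical
  haveI := Fintype.ofFinite G
  haveI : Fact q.Prime := ⟨hq⟩
  have hz1 : z ≠ 1 := fun e => by rw [e, orderOf_one] at hz; norm_num at hz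
  have hzr := regular_of_two S hz
  have hwz : S.w z = 0 := by
    have := w_involution S hM hz
    rw [hC] at this
    omega
  have hmem : z ∈ zeros S := by simp [zeros, reg, hz1, hzr, hwz]
  have heq := Finset.eq_of_subset_of_card_le (class_subset S hmem) (by
    rw [class_card S hz1 hzr, hC, hM,
      Nat.mul_div_cancel_left _ (by have := S.two_le_f; omega)]
    have h := card_zeros S hM
    have he := e_eq S
    rw [hδ] at he
    rw [← Int.ofNat_le, h, Nat.cast_mul, he, hfp]
    push_cast
    nlinarith)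
  obtain ⟨g, hg⟩ := exists_prime_orderOf_dvd_card' (G := G) q (hqf.trans (f_dvd S))
  obtain ⟨hg1, hgp, hg0⟩ := w_zero_of_dvd S hM hq hqf hg
  have : g ∈ zeros S := by simp [zeros, reg, hg1, hgp, hg0]
  rw [← heq] at this
  have := orderOf_eq_of_mk (Finset.mem_filter.1 this).2
  omega

/-- The case `f = 225`: the elements of orders `3` and `5` exhaust the zeros. -/
theorem false_of_225 (hM : S.M = S.f * S.e) (hf : S.f = 225) (hδ : S.D.δ = -1) (hp113 : p = 113)
    {z : G} (hz : orderOf z = 2) : False := by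
  classical
  haveI := Fintype.ofFinite G
  have he : S.e = 224 := by have := e_eq S; rw [hδ, hf] at this; omega
  have hMv : S.M = 50400 := by rw [hM, hf, he]
  have hz0 := card_zeros S hM
  rw [hf] at hz0
  have key : ∀ q, q.Prime → q ∣ 225 → ∀ g : G, orderOf g = q →
      g ∈ zeros S ∧ cc g ∣ 225 ∧ g ≠ 1 ∧ ¬ p ∣ orderOf g := fun q hq hqf g hg => by
    obtain ⟨hg1, hgp, hg0⟩ := w_zero_of_dvd S hM hq (hf.symm ▸ hqf) hg
    refine ⟨by simp [zeros, reg, hg1, hgp, hg0], ?_, hg1, hgp⟩
    have := cc_dvd S hM hz hg1 hgp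
    rw [hg0, sub_zero, hf] at this
    exact_mod_cast this
  haveI : Fact (Nat.Prime 3) := ⟨Nat.prime_three⟩
  haveI : Fact (Nat.Prime 5) := ⟨by norm_num⟩
  obtain ⟨a, ha⟩ := exists_prime_orderOf_dvd_card' (G := G) 3
    ((show 3 ∣ S.f by rw [hf]; norm_num).trans (f_dvd S))
  obtain ⟨b, hb⟩ := exists_prime_orderOf_dvd_card' (G := G) 5
    ((show 5 ∣ S.f by rw [hf]; norm_num).trans (f_dvd S))
  obtain ⟨za, ca, a1, ap⟩ := key 3 Nat.prime_three (by norm_num) a ha
  obtain ⟨zb, cb, b1, bp⟩ := key 5 (by norm_num) (by norm_num) b hb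
  have hsub := Finset.union_subset (class_subset S za) (class_subset S zb)
  have hdis : Disjoint (Finset.univ.filter fun h : G => ConjClasses.mk h = ConjClasses.mk a)
      (Finset.univ.filter fun h : G => ConjClasses.mk h = ConjClasses.mk b) := by
    rw [Finset.disjoint_left]
    intro c h1 h2
    have e1 := orderOf_eq_of_mk (Finset.mem_filter.1 h1).2
    have e2 := orderOf_eq_of_mk (Finset.mem_filter.1 h2).2
    omega
  have hle := Finset.card_le_card hsub
  rw [Finset.card_union_of_disjoint hdis, class_card S a1 ap, class_card S b1 bp, hMv] at hle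
  have hsz : (zeros S).card = 50624 := by push_cast at hz0; omega
  have hmin : ∀ c, c ∣ 225 → c = 225 ∨ 672 ≤ 50400 / c := fun c hc => by
    have : c ∈ Nat.divisors 225 := Nat.mem_divisors.2 ⟨hc, by norm_num⟩
    rw [show Nat.divisors 225 = {1, 3, 5, 9, 15, 25, 45, 75, 225} by decide +kernel] at this
    simp only [Finset.mem_insert, Finset.mem_singleton] at this
    rcases this with rfl | rfl | rfl | rfl | rfl | rfl | rfl | rfl | rfl <;> norm_num
  have ha225 : cc a = 225 := by
    rcases hmin _ ca with h | h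
    · exact h
    · rcases hmin _ cb with h' | h'
      · rw [h', hsz, hp113] at hle; omega
      · rw [hsz, hp113] at hle; omega
  have hb225 : cc b = 225 := by
    rcases hmin _ cb with h | h
    · exact h
    · rw [ha225, hsz, hp113] at hle; omega
  have heq := Finset.eq_of_subset_of_card_le hsub (by
    rw [Finset.card_union_of_disjoint hdis, class_card S a1 ap, class_card S b1 bp, ha225, hb225,
      hMv, hsz, hp113])
  obtain ⟨⟨y, hy⟩, hyo⟩ := exists_prime_orderOf_dvd_card'
    (G := Subgroup.centralizer ({a} : Set G)) 5 (by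
      show 5 ∣ cc a
      rw [ha225]; norm_num)
  rw [Subgroup.orderOf_mk] at hyo
  have hc : Commute y a := Subgroup.mem_centralizer_singleton_iff.1 hy
  have ho : orderOf (y * a) = 15 := by
    rw [hc.orderOf_mul_eq_mul_orderOf_of_coprime (by rw [hyo, ha]; norm_num), hyo, ha]
  have hy1 : y * a ≠ 1 := fun e => by rw [e, orderOf_one] at ho; norm_num at ho
  have hyp : ¬ p ∣ orderOf (y * a) := by rw [ho, hp113]; norm_num
  have hd : (15 : ℤ) ∣ (S.f : ℤ) - S.w (y * a) := by
    refine dvd_trans ?_ (cc_dvd S hM hz hy1 hyp)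
    have h15 : orderOf (y * a) ∣ cc (y * a) := Subgroup.orderOf_dvd_natCard _
      (Subgroup.mem_centralizer_singleton_iff.2 rfl)
    rw [ho] at h15
    exact_mod_cast h15
  have h0 : S.w (y * a) = 0 := by
    rcases w_cases S hM hy1 hyp with h | h
    · exact h
    · rw [h, hf, hδ] at hd; norm_num at hd
  have : y * a ∈ zeros S := by simp [zeros, reg, hy1, hyp, h0]
  rw [← heq, Finset.mem_union, Finset.mem_filter, Finset.mem_filter] at this
  rcases this with ⟨-, h⟩ | ⟨-, h⟩ <;> have := orderOf_eq_of_mk h <;> omega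

end Cfsg.Agent.Lib.LargePrimeTwo42.Tight
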